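import Cfsg.Agent.Lib.ThK83.Kernel

/-!
Kernel checks for a class of elements of the group on the 17199 points, given by conjugating words.
An element is stored as the packed images of the base points, sixteen bits each.
-/

namespace Cfsg.Agent.Lib.Th67

open Cfsg.Agent.Lib.ThK83 (Tabs hold band forallB rangeB nth memN)

/-- the packed images of the base under a word -/
noncomputable def keyW (D : Tabs) (base : List Nat) (u : List Nat) : Nat :=
  List.rec (motive := fun _ => Nat) 0
    (fun b _ ih => hold (D.go u b) fun q => Nat.add q (Nat.mul 65536 ih)) base

/-- the word of the `i`-th member: `k⁻¹ a k`, stored as the pair `(k⁻¹, k)` -/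
noncomputable def memW (cw : List (List Nat × List Nat)) (i : Nat) : List Nat :=
  (nth ([], []) cw i).1 ++ [1] ++ (nth ([], []) cw i).2

/-- the stored pairs are inverse to each other and the keys are right -/
noncomputable def memOK (D : Tabs) (base : List Nat) (cw : List (List Nat × List Nat))
    (keys : List Nat) (i : Nat) : Bool :=
  band (Nat.beq (keyW D base ((nth ([], []) cw i).1 ++ (nth ([], []) cw i).2)) (keyW D base []))
    (Nat.beq (keyW D base (memW cw i)) (nth 0 keys i))

/-- the conjugate of the `i`-th member under the letter `g` (with inverse `g'`) is member number `q` -/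
noncomputable def stepOK (D : Tabs) (base : List Nat) (cw : List (List Nat × List Nat))
    (keys : List Nat) (g g' : Nat) (img : List Nat) (i : Nat) : Bool :=
  hold (nth 0 img i) fun q =>
    band (Nat.blt q keys.length) (Nat.beq (keyW D base ([g'] ++ memW cw i ++ [g])) (nth 0 keys q))

/-- strictly increasing -/
noncomputable def incB (l : List Nat) : Bool :=
  (List.rec (motive := fun _ => Nat → Bool) (fun _ => true)
    (fun x _ ih lo => band (Nat.ble lo x) (ih (Nat.succ x))) l) 0

/-- a list of indices turned into a word -/
noncomputable def catW (gl : List (List Nat)) (is : List Nat) : List Nat :=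
  List.rec (motive := fun _ => List Nat) [] (fun i _ ih => nth [] gl i ++ ih) is

end Cfsg.Agent.Lib.Th67
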