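import Mathlib
import Cfsg.Agent.Lib.ThK83.Perm
import Cfsg.Agent.Lib.Th67.ClassKernel

/-!
Soundness of the class checks: the listed members are the whole class of `a` in `Kbar`, and the
centraliser of `a` there is bounded by the number of members.
-/

set_option autoImplicit false

namespace Cfsg.Agent.Lib.Th67

open Cfsg.Agent.Lib.ThK83 (Kbar rep tabs hold_eq band_eq beqN_iff bltN_iff bleN_iff nth_eq nth)

/-- pack a list of points -/
def packPts : List ℕ → ℕ
  | [] => 0
  | q :: l => q + 65536 * packPts l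

theorem packPts_inj : ∀ {l m : List ℕ}, (∀ q ∈ l, q < 65536) → (∀ q ∈ m, q < 65536) →
    l.length = m.length → packPts l = packPts m → l = m
  | [], [], _, _, _, _ => rfl
  | [], _ :: _, _, _, hl, _ => by simp at hl
  | _ :: _, [], _, _, hl, _ => by simp at hl
  | q :: l, r :: m, h1, h2, hl, e => by
    have hq := h1 q (List.mem_cons_self ..)
    have hr := h2 r (List.mem_cons_self ..)
    simp only [packPts] at e
    have : q = r := by omega
    subst this
    rw [packPts_inj (fun x hx => h1 x (List.mem_cons_of_mem _ hx))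
      (fun x hx => h2 x (List.mem_cons_of_mem _ hx)) (by simpa using hl) (by omega)]

/-- the key of an element -/
noncomputable def keyQ (base : List ℕ) (x : Kbar) : ℕ := packPts (rep.imgs x base)

variable {base : List ℕ}

theorem keyW_eq (hb : ∀ b ∈ base, b < 17199) (u : List ℕ) :
    keyW tabs base u = keyQ base (rep.ev u) := by
  induction base with
  | nil => rfl
  | cons b l ih =>
    have e : keyW tabs (b :: l) u
        = ThK83.hold (tabs.go u b) (fun q => Nat.add q (Nat.mul 65536 (keyW tabs l u))) := rfl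
    rw [e, hold_eq, rep.go_eq u b (hb b (List.mem_cons_self ..)),
      ih fun x hx => hb x (List.mem_cons_of_mem _ hx)]
    rfl

theorem keyQ_inj (hb : ∀ b ∈ base, b < 17199) (hI : rep.Inj base) {x y : Kbar}
    (h : keyQ base x = keyQ base y) : x = y := by
  refine rep.eq_of_imgs hI (packPts_inj ?_ ?_ (by simp [ThK83.Rep.imgs]) h) <;>
  · intro q hq
    obtain ⟨b, hbm, rfl⟩ := List.mem_map.1 hq
    exact lt_trans (rep.pt_lt _ _ (hb b hbm)) (by norm_num)

theorem ev_eq_of_key (hb : ∀ b ∈ base, b < 17199) (hI : rep.Inj base) {u v : List ℕ}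
    (h : keyW tabs base u = keyW tabs base v) : rep.ev u = rep.ev v := by
  rw [keyW_eq hb, keyW_eq hb] at h
  exact keyQ_inj hb hI h

theorem ev_one : rep.ev [1] = rep.f 0 := by
  have h : ThK83.decode [1] = [0] := by decide +kernel
  simp [ThK83.Rep.ev, h]

theorem ev_letter {l : ℕ} (hl : l < 9) : rep.ev [l + 1] = rep.f l := by
  have h : ∀ l < 9, ThK83.decode [l + 1] = [l] := by decide +kernel
  simp [ThK83.Rep.ev, h l hl]

/-- the hypotheses checked by the kernel -/
structure ClassCert (base : List ℕ) (cw : List (List ℕ × List ℕ)) (keys : List ℕ) (n : ℕ) : Prop where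
  hb : ∀ b ∈ base, b < 17199
  hI : rep.Inj base
  len : keys.length = n
  mem : ∀ i < n, memOK tabs base cw keys i = true
  step : ∀ l ∈ [0, 1, 2, 3, 4, 5, 7], ∃ img : List ℕ,
    ∀ i < n, stepOK tabs base cw keys (l + 1) (ThK83.invL l + 1) img i = true
  start : ∃ i < n, nth 0 keys i = keyW tabs base [1]
  inc : incB keys = true

theorem incB_pairwise {l : List ℕ} (h : incB l = true) : l.Pairwise (· < ·) := by
  suffices H : ∀ (l : List ℕ) (lo : ℕ),
      (List.rec (motive := fun _ => ℕ → Bool) (fun _ => true)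
        (fun x _ ih lo => ThK83.band (Nat.ble lo x) (ih (Nat.succ x))) l) lo = true →
      l.Pairwise (· < ·) ∧ ∀ x ∈ l, lo ≤ x from (H l 0 h).1
  intro l
  induction l with
  | nil => simp
  | cons x l ih =>
    intro lo hl
    have hl' : ThK83.band (Nat.ble lo x) ((List.rec (motive := fun _ => ℕ → Bool) (fun _ => true)
        (fun x _ ih lo => ThK83.band (Nat.ble lo x) (ih (Nat.succ x))) l) (Nat.succ x)) = true := hl
    rw [band_eq, Bool.and_eq_true, bleN_iff] at hl'
    obtain ⟨h1, h2⟩ := ih _ hl'.2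
    refine ⟨List.pairwise_cons.2 ⟨fun y hy => h2 y hy, h1⟩, fun y hy => ?_⟩
    rcases List.mem_cons.1 hy with rfl | hy
    · exact hl'.1
    · have := h2 y hy; omega

namespace ClassCert

variable {cw : List (List ℕ × List ℕ)} {keys : List ℕ} {n : ℕ} (C : ClassCert base cw keys n)

/-- the right conjugating element -/
noncomputable def conjW (cw : List (List ℕ × List ℕ)) (i : ℕ) : Kbar := rep.ev (nth ([], []) cw i).2

include C

theorem mem_eq {i : ℕ} (hi : i < n) :
    rep.ev (memW cw i) = (conjW cw i)⁻¹ * rep.f 0 * conjW cw i ∧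
      nth 0 keys i = keyQ base (rep.ev (memW cw i)) := by
  have h := C.mem i hi
  simp only [memOK, band_eq, Bool.and_eq_true, beqN_iff] at h
  have e := ev_eq_of_key C.hb C.hI h.1
  rw [rep.ev_append, rep.ev_nil] at e
  refine ⟨?_, h.2 ▸ keyW_eq C.hb _⟩
  rw [memW, rep.ev_append, rep.ev_append, ev_one, conjW, eq_inv_of_mul_eq_one_left e]

theorem exists_conj [Finite Kbar] (h : Kbar) :
    ∃ i < n, rep.ev (memW cw i) = h⁻¹ * rep.f 0 * h := by
  have hgen : (⊤ : Subgroup Kbar) = Subgroup.closure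
      {g | ∃ l ∈ [0, 1, 2, 3, 4, 5, 7], g = rep.f l} := by
    refine (eq_top_iff.2 ?_).symm
    intro g _
    have hg : (g : Equiv.Perm (Fin 17199)) ∈ Subgroup.map (Kbar).subtype
        (Subgroup.closure {g : Kbar | ∃ l ∈ [0, 1, 2, 3, 4, 5, 7], g = rep.f l}) := by
      rw [MonoidHom.map_closure]
      refine Subgroup.closure_mono ?_ g.2
      intro x hx
      simp only [Set.mem_insert_iff, Set.mem_singleton_iff] at hx
      rcases hx with rfl | rfl | rfl | rfl | rfl | rfl | rfl
      exacts [⟨rep.f 0, ⟨0, by simp, rfl⟩, rfl⟩, ⟨rep.f 1, ⟨1, by simp, rfl⟩, rfl⟩,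
        ⟨rep.f 2, ⟨2, by simp, rfl⟩, rfl⟩, ⟨rep.f 3, ⟨3, by simp, rfl⟩, rfl⟩,
        ⟨rep.f 4, ⟨4, by simp, rfl⟩, rfl⟩, ⟨rep.f 5, ⟨5, by simp, rfl⟩, rfl⟩,
        ⟨rep.f 7, ⟨7, by simp, rfl⟩, rfl⟩]
    obtain ⟨g', hg', e⟩ := hg
    rwa [← Subtype.ext e]
  have hmem : h ∈ (Subgroup.closure {g : Kbar | ∃ l ∈ [0, 1, 2, 3, 4, 5, 7], g = rep.f l}).toSubmonoid := by
    rw [← hgen]; exact Subgroup.mem_top h
  rw [Subgroup.closure_toSubmonoid_of_finite] at hmem
  have key : ∀ i < n, ∃ j < n, rep.ev (memW cw j) = h⁻¹ * rep.ev (memW cw i) * h := by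
    clear hgen
    induction hmem using Submonoid.closure_induction with
    | mem x hx =>
      obtain ⟨l, hl, rfl⟩ := hx
      intro i hi
      obtain ⟨img, himg⟩ := C.step l hl
      have hs := himg i hi
      simp only [stepOK, hold_eq, band_eq, Bool.and_eq_true, bltN_iff, beqN_iff, C.len] at hs
      refine ⟨nth 0 img i, hs.1, ?_⟩
      have hl9 : l < 9 := by
        simp only [List.mem_cons, List.not_mem_nil, or_false] at hl; omega
      have e2 := hs.2
      rw [keyW_eq C.hb, (C.mem_eq hs.1).2] at e2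
      rw [← keyQ_inj C.hb C.hI e2, rep.ev_append, rep.ev_append, ev_letter hl9,
        ev_letter (ThK83.invL_spec l hl9).1, ThK83.rep_inv hl9]
    | one => intro i hi; exact ⟨i, hi, by simp⟩
    | mul x y _ _ hx hy =>
      intro i hi
      obtain ⟨j, hj, ej⟩ := hx i hi
      obtain ⟨k, hk, ek⟩ := hy j hj
      exact ⟨k, hk, by rw [ek, ej]; group⟩
  obtain ⟨i, hi, hk⟩ := C.start
  obtain ⟨j, hj, e⟩ := key i hi
  refine ⟨j, hj, ?_⟩
  have hi' : rep.ev (memW cw i) = rep.f 0 := by
    refine keyQ_inj C.hb C.hI ?_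
    rw [← (C.mem_eq hi).2, hk, keyW_eq C.hb, ev_one]
  rw [e, hi']

theorem mem_injective {i j : ℕ} (hi : i < n) (hj : j < n)
    (h : rep.ev (memW cw i) = rep.ev (memW cw j)) : i = j := by
  have e : nth 0 keys i = nth 0 keys j := by rw [(C.mem_eq hi).2, (C.mem_eq hj).2, h]
  rw [nth_eq, nth_eq, List.getD_eq_getElem _ _ (C.len ▸ hi), List.getD_eq_getElem _ _ (C.len ▸ hj)] at e
  exact ((incB_pairwise C.inc).nodup.getElem_inj_iff).1 e

theorem card_cent_le [Finite Kbar] :
    n * Nat.card {x : Kbar // x * rep.f 0 = rep.f 0 * x} ≤ Nat.card Kbar := by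
  classical
  let f : Fin n × {x : Kbar // x * rep.f 0 = rep.f 0 * x} → Kbar :=
    fun p => p.2.1 * conjW cw p.1
  have hf : Function.Injective f := by
    rintro ⟨i, x⟩ ⟨j, y⟩ e
    have e' : x.1 * conjW cw i = y.1 * conjW cw j := e
    have hx : x.1⁻¹ * rep.f 0 * x.1 = rep.f 0 := by rw [mul_assoc, ← x.2]; group
    have hy : y.1⁻¹ * rep.f 0 * y.1 = rep.f 0 := by rw [mul_assoc, ← y.2]; group
    have hi : (i : ℕ) = j := by
      refine C.mem_injective i.2 j.2 ?_
      rw [(C.mem_eq i.2).1, (C.mem_eq j.2).1]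
      calc (conjW cw i)⁻¹ * rep.f 0 * conjW cw i
          = (conjW cw i)⁻¹ * (x.1⁻¹ * rep.f 0 * x.1) * conjW cw i := by rw [hx]
        _ = (x.1 * conjW cw i)⁻¹ * rep.f 0 * (x.1 * conjW cw i) := by group
        _ = (y.1 * conjW cw j)⁻¹ * rep.f 0 * (y.1 * conjW cw j) := by rw [e']
        _ = (conjW cw j)⁻¹ * (y.1⁻¹ * rep.f 0 * y.1) * conjW cw j := by group
        _ = (conjW cw j)⁻¹ * rep.f 0 * conjW cw j := by rw [hy]
    obtain rfl : i = j := Fin.ext hi
    exact Prod.ext rfl (Subtype.ext (mul_right_cancel e'))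
  have := Nat.card_le_card_of_injective f hf
  simpa [Nat.card_prod] using this

end ClassCert

end Cfsg.Agent.Lib.Th67
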