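import Mathlib
import Cfsg.Agent.Lib.LyCent69.FixCount

/-!
A bound on a centraliser through the cosets `g * H` with `g⁻¹ * t * g` in the `H`-class of `t`,
counted over the double cosets of `H`.
-/

set_option autoImplicit false

namespace Cfsg.Agent.Lib.Th67

open Cfsg.Agent.Lib.LyCent69 (centIn coset_eq_of_mem mem_map_conj)

variable {G : Type*} [Group G] (H : Subgroup G) (t : G)

/-- the class of `t` under `H` -/
def classIn : Set G := {x | ∃ h ∈ H, x = h⁻¹ * t * h}

theorem classIn_self : t ∈ classIn H t := ⟨1, H.one_mem, by group⟩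

theorem classIn_le (ht : t ∈ H) {x : G} (hx : x ∈ classIn H t) : x ∈ H := by
  obtain ⟨h, hh, rfl⟩ := hx
  exact H.mul_mem (H.mul_mem (H.inv_mem hh) ht) hh

theorem classIn_conj {x k : G} (hk : k ∈ H) (hx : x ∈ classIn H t) :
    k * x * k⁻¹ ∈ classIn H t := by
  obtain ⟨h, hh, rfl⟩ := hx
  exact ⟨h * k⁻¹, H.mul_mem hh (H.inv_mem hk), by group⟩

/-- the cosets `g * H` with `g⁻¹ * t * g` in the class -/
def goodFix : Set (G ⧸ H) := {q | ∃ g : G, q = (g : G ⧸ H) ∧ g⁻¹ * t * g ∈ classIn H t}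

/-- those of them in the double coset of `s` -/
def goodIn (s : G) : Set (G ⧸ H) :=
  {q | ∃ h ∈ H, q = ((h * s : G) : G ⧸ H) ∧ s⁻¹ * (h⁻¹ * t * h) * s ∈ classIn H t}

/-- the members of the class which `s` sends into the class -/
def classBack (s : G) : Set G := {x | x ∈ classIn H t ∧ s⁻¹ * x * s ∈ classIn H t}

theorem card_centralizer_le [Finite G] :
    Nat.card ↥(Subgroup.centralizer {t}) ≤
      Nat.card ↥(goodFix H t) * Nat.card (centIn H t) := by
  classical
  set C := Subgroup.centralizer {t} with hCdef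
  have hC : ∀ c ∈ C, t * c = c * t := fun c hc => (Subgroup.mem_centralizer_singleton_iff.1 hc).symm
  rw [Subgroup.card_eq_card_quotient_mul_card_subgroup (H.subgroupOf C)]
  have hgood : ∀ c : C, ((c : G) : G ⧸ H) ∈ goodFix H t := by
    intro c
    refine ⟨c, rfl, ?_⟩
    rw [mul_assoc, hC c c.2, ← mul_assoc, inv_mul_cancel, one_mul]
    exact classIn_self H t
  refine Nat.mul_le_mul ?_ ?_
  · refine Nat.card_le_card_of_injective
      (fun q : C ⧸ H.subgroupOf C => Quotient.liftOn' q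
        (fun c => (⟨((c : G) : G ⧸ H), hgood c⟩ : ↥(goodFix H t)))
        (fun a b hab => Subtype.ext (QuotientGroup.eq.2
          (QuotientGroup.leftRel_apply.1 hab :)))) ?_
    intro a b
    induction a using Quotient.inductionOn' with
    | h a =>
      induction b using Quotient.inductionOn' with
      | h b =>
        intro hab
        exact QuotientGroup.eq.2 (QuotientGroup.eq.1 (congrArg Subtype.val hab) :)
  · refine Nat.card_le_card_of_injective
      (fun x : H.subgroupOf C => (⟨⟨((x : C) : G), x.2⟩, (hC _ (x : C).2).symm⟩ : centIn H t)) ?_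
    intro a b hab
    exact Subtype.ext (Subtype.ext (congrArg (fun z : centIn H t => ((z : H) : G)) hab))

theorem card_goodFix_le [Finite G] {ι : Type*} [Fintype ι] (s : ι → G)
    (cover : ∀ g, ∃ j, ∃ h ∈ H, ∃ k ∈ H, g = h * s j * k) :
    Nat.card ↥(goodFix H t) ≤ ∑ j, Nat.card ↥(goodIn H t (s j)) := by
  classical
  rw [← Nat.card_sigma]
  have key : ∀ q : ↥(goodFix H t), ∃ j, (q : G ⧸ H) ∈ goodIn H t (s j) := by
    rintro ⟨q, g, rfl, hg⟩
    obtain ⟨j, h, hh, k, hk, rfl⟩ := cover g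
    refine ⟨j, h, hh, QuotientGroup.eq.2 ?_, ?_⟩
    · rw [show (h * s j * k)⁻¹ * (h * s j) = k⁻¹ by group]; exact inv_mem hk
    · rw [show (s j)⁻¹ * (h⁻¹ * t * h) * s j
          = k * ((h * s j * k)⁻¹ * t * (h * s j * k)) * k⁻¹ by group]
      exact classIn_conj H t hk hg
  choose jf hjf using key
  refine Nat.card_le_card_of_injective (fun q => (⟨jf q, ⟨(q : G ⧸ H), hjf q⟩⟩ :
    (j : ι) × ↥(goodIn H t (s j)))) ?_
  intro a b hab
  exact Subtype.ext (congrArg (fun x : (j : ι) × ↥(goodIn H t (s j)) => (x.2 : G ⧸ H)) hab)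

theorem card_goodIn_mul_le [Finite G] (ht : t ∈ H) (s : G) :
    Nat.card ↥(goodIn H t s) * Nat.card ↥(H ⊓ H.map (MulAut.conj s).toMonoidHom) ≤
      Nat.card ↥(classBack H t s) * Nat.card (centIn H t) := by
  classical
  set K := H ⊓ H.map (MulAut.conj s).toMonoidHom with hKdef
  let S : Type _ := {h : H // (h : G)⁻¹ * t * h ∈ classBack H t s}
  have h1 : Nat.card ↥(goodIn H t s) * Nat.card K ≤ Nat.card S := by
    rw [← Nat.card_prod]
    choose r hrH hr hrT using fun q : ↥(goodIn H t s) => q.2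
    have hmem : ∀ p : ↥(goodIn H t s) × K,
        (r p.1 * (p.2 : G))⁻¹ * t * (r p.1 * p.2) ∈ classBack H t s := by
      intro p
      refine ⟨⟨_, H.mul_mem (hrH p.1) p.2.2.1, rfl⟩, ?_⟩
      have hk := (mem_map_conj H).1 p.2.2.2
      rw [show s⁻¹ * ((r p.1 * (p.2 : G))⁻¹ * t * (r p.1 * p.2)) * s
          = (s⁻¹ * p.2 * s)⁻¹ * (s⁻¹ * ((r p.1)⁻¹ * t * r p.1) * s) * (s⁻¹ * p.2 * s)⁻¹⁻¹ by group]
      exact classIn_conj H t (inv_mem hk) (hrT p.1)
    refine Nat.card_le_card_of_injective (fun p : ↥(goodIn H t s) × K =>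
      (⟨⟨r p.1 * p.2, H.mul_mem (hrH p.1) p.2.2.1⟩, hmem p⟩ : S)) ?_
    intro a b hab
    have e : r a.1 * (a.2 : G) = r b.1 * b.2 := congrArg (fun z : S => ((z : H) : G)) hab
    have e1 : a.1 = b.1 := Subtype.ext (by
      rw [hr a.1, hr b.1, ← coset_eq_of_mem H (h := r a.1) a.2.2,
        ← coset_eq_of_mem H (h := r b.1) b.2.2, e])
    rw [e1] at e
    exact Prod.ext e1 (Subtype.ext (mul_left_cancel e))
  refine h1.trans ?_
  rw [← Nat.card_prod]
  have hc : ∀ x : ↥(classBack H t s), ∃ h : H, (x : G) = (h : G)⁻¹ * t * h := by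
    rintro ⟨x, ⟨h, hh, rfl⟩, -⟩
    exact ⟨⟨h, hh⟩, rfl⟩
  choose rc hrc using hc
  have hcomm : ∀ h : S, ((h.1 : G) * ((rc ⟨_, h.2⟩ : H) : G)⁻¹) * t
      = t * ((h.1 : G) * ((rc ⟨_, h.2⟩ : H) : G)⁻¹) := by
    intro h
    set r : G := ((rc ⟨_, h.2⟩ : H) : G) with hrdef
    have e : r⁻¹ * t * r = (h.1 : G)⁻¹ * t * h.1 := (hrc ⟨_, h.2⟩).symm
    calc ((h.1 : G) * r⁻¹) * t = (h.1 : G) * (r⁻¹ * t * r) * r⁻¹ := by group
      _ = t * ((h.1 : G) * r⁻¹) := by rw [e]; group
  refine Nat.card_le_card_of_injective (fun h : S => ((⟨_, h.2⟩ : ↥(classBack H t s)),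
    (⟨h.1 * (rc ⟨_, h.2⟩)⁻¹, hcomm h⟩ : centIn H t))) ?_
  intro a b hab
  obtain ⟨e1, e2⟩ := Prod.mk.inj hab
  have e4 := congrArg (fun z : centIn H t => (z : H)) e2
  simp only at e4
  rw [e1] at e4
  exact Subtype.ext (mul_right_cancel e4)

/-- the bound: `n j` good cosets in the double coset of `s j` -/
theorem card_centralizer_le_sum [Finite G] {ι : Type*} [Fintype ι] (s : ι → G) (ht : t ∈ H)
    (cover : ∀ g, ∃ j, ∃ h ∈ H, ∃ k ∈ H, g = h * s j * k) {c : ℕ}
    (hc : Nat.card (centIn H t) ≤ c) (n : ι → ℕ)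
    (hn : ∀ j, Nat.card ↥(classBack H t (s j)) * c ≤
      n j * Nat.card ↥(H ⊓ H.map (MulAut.conj (s j)).toMonoidHom)) :
    Nat.card ↥(Subgroup.centralizer {t}) ≤ (∑ j, n j) * c := by
  refine (card_centralizer_le H t).trans (Nat.mul_le_mul ((card_goodFix_le H t s cover).trans
    (Finset.sum_le_sum fun j _ => ?_)) hc)
  have h := ((card_goodIn_mul_le H t ht (s j)).trans (Nat.mul_le_mul_left _ hc)).trans (hn j)
  exact Nat.le_of_mul_le_mul_right h Nat.card_pos

end Cfsg.Agent.Lib.Th67
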