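import Mathlib
import Cfsg.Agent.Lib.Th67.GoodFix
import Cfsg.Agent.Lib.Th67.Class

/-!
The class of `φ a` in the image of `Kbar`, and the members which a double coset representative
sends back into the class.
-/

set_option autoImplicit false

namespace Cfsg.Agent.Lib.Th67

open Cfsg.Agent.Lib.ThK83 (Kbar rep tabs nth memN memN_iff nth_eq)
open Cfsg.Agent.Lib.LyCent69 (centIn)

instance : Finite Kbar := Subtype.finite

variable {G : Type*} [Group G] (φ : Kbar →* G)

theorem mem_classIn_iff {base : List ℕ} {cw : List (List ℕ × List ℕ)} {keys : List ℕ} {n : ℕ}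
    (C : ClassCert base cw keys n) {x : G} (hx : x ∈ classIn φ.range (φ (rep.f 0))) :
    ∃ i < n, x = φ (rep.ev (memW cw i)) := by
  obtain ⟨_, ⟨h, rfl⟩, rfl⟩ := hx
  obtain ⟨i, hi, e⟩ := C.exists_conj h
  exact ⟨i, hi, by rw [e, map_mul, map_mul, map_inv]⟩

theorem card_centIn_le [Finite G] (hinj : Function.Injective φ) :
    Nat.card (centIn φ.range (φ (rep.f 0))) ≤
      Nat.card {x : Kbar // x * rep.f 0 = rep.f 0 * x} := by
  have hg : ∀ x : centIn φ.range (φ (rep.f 0)), ∃ y : Kbar, φ y = x.1 := fun x => x.1.2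
  choose g hg using hg
  refine Nat.card_le_card_of_injective (fun x : centIn φ.range (φ (rep.f 0)) =>
    (⟨g x, hinj (by rw [map_mul, map_mul, hg x]; exact x.2)⟩ :
      {x : Kbar // x * rep.f 0 = rep.f 0 * x})) ?_
  intro a b hab
  have h := congrArg (fun z : {x : Kbar // x * rep.f 0 = rep.f 0 * x} => φ z.1) hab
  simp only [hg] at h
  exact Subtype.ext (Subtype.ext h)

/-- members of the class sent back into it: at most the listed ones -/
theorem card_classBack_le [Finite G] {base : List ℕ} {cw : List (List ℕ × List ℕ)} {keys : List ℕ}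
    {n : ℕ} (C : ClassCert base cw keys n) (s : G) (good : List ℕ)
    (h : ∀ i < n, s⁻¹ * φ (rep.ev (memW cw i)) * s ∈ classIn φ.range (φ (rep.f 0)) → i ∈ good) :
    Nat.card ↥(classBack φ.range (φ (rep.f 0)) s) ≤ good.length := by
  classical
  have key : ∀ x : ↥(classBack φ.range (φ (rep.f 0)) s),
      ∃ i : ↥good.toFinset, (x : G) = φ (rep.ev (memW cw i)) := by
    rintro ⟨x, hx, hx'⟩
    obtain ⟨i, hi, rfl⟩ := mem_classIn_iff φ C hx
    exact ⟨⟨i, List.mem_toFinset.2 (h i hi hx')⟩, rfl⟩
  choose f hf using key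
  refine (Nat.card_le_card_of_injective f fun a b e => Subtype.ext ?_).trans ?_
  · rw [hf a, hf b, e]
  · rw [Nat.card_eq_finsetCard]
    exact List.toFinset_card_le _

/-- the rule of a generator list under conjugation by `s` -/
def Rules (s : G) (gl il : List (List ℕ)) : Prop :=
  ∀ k, s⁻¹ * φ (rep.ev (nth [] gl k)) * s = φ (rep.ev (nth [] il k))

theorem rules_cat {s : G} {gl il : List (List ℕ)} (hR : Rules φ s gl il) :
    ∀ is : List ℕ, s⁻¹ * φ (rep.ev (catW gl is)) * s = φ (rep.ev (catW il is))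
  | [] => by simp [catW, ThK83.Rep.ev_nil]
  | k :: is => by
    have e1 : catW gl (k :: is) = nth [] gl k ++ catW gl is := rfl
    have e2 : catW il (k :: is) = nth [] il k ++ catW il is := rfl
    rw [e1, e2, rep.ev_append, rep.ev_append, map_mul, map_mul, ← rules_cat hR is, ← hR k]
    group

/-- the member is a product of generators, whose image is outside the class -/
theorem not_back_of_image (hinj : Function.Injective φ) {base : List ℕ}
    {cw : List (List ℕ × List ℕ)} {keys : List ℕ} {n : ℕ} (C : ClassCert base cw keys n) {s : G}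
    {gl il : List (List ℕ)} (hR : Rules φ s gl il) {i : ℕ} (hi : i < n) {is : List ℕ}
    (h1 : keyW tabs base (catW gl is) = nth 0 keys i)
    (h2 : memN (keyW tabs base (catW il is)) keys = false) :
    s⁻¹ * φ (rep.ev (memW cw i)) * s ∉ classIn φ.range (φ (rep.f 0)) := by
  intro hm
  rw [keyW_eq C.hb, (C.mem_eq hi).2] at h1
  rw [← keyQ_inj C.hb C.hI h1, rules_cat φ hR is] at hm
  obtain ⟨j, hj, e⟩ := mem_classIn_iff φ C hm
  have h3 : keyW tabs base (catW il is) ∈ keys := by
    rw [keyW_eq C.hb, hinj e, ← (C.mem_eq hj).2, nth_eq, List.getD_eq_getElem _ _ (C.len ▸ hj)]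
    exact List.getElem_mem _
  rw [memN_iff.2 h3] at h2
  exact Bool.noConfusion h2

/-- the member lies outside the intersection with the conjugate -/
theorem not_back_of_notMem {s : G} {x : Kbar} (hx : s⁻¹ * φ x * s ∉ φ.range) :
    s⁻¹ * φ x * s ∉ classIn φ.range (φ (rep.f 0)) :=
  fun h => hx (classIn_le φ.range _ (MonoidHom.mem_range.2 ⟨_, rfl⟩) h)

end Cfsg.Agent.Lib.Th67
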