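import Cfsg.Agent.Lib.Th67.ClassKernel

/-!
Kernel check: all but the listed members are conjugate, under the listed words, to the listed bad ones.
A step is packed in three fields of sixteen bits: the new member, the old one, and the word.
-/

namespace Cfsg.Agent.Lib.Th67

open Cfsg.Agent.Lib.ThK83 (Tabs hold band forallB rangeB nth memN)

/-- one step: the old member is marked and the word carries it to the new one -/
noncomputable def moveOK (D : Tabs) (base : List Nat) (cw : List (List Nat × List Nat))
    (gl : List (List Nat)) (q i g : Nat) : Bool :=
  band (Nat.blt q cw.length)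
    (Nat.beq (keyW D base (memW cw i ++ nth [] gl g)) (keyW D base (nth [] gl g ++ memW cw q)))

/-- run the steps from the mask -/
noncomputable def markRun (D : Tabs) (base : List Nat) (cw : List (List Nat × List Nat))
    (gl : List (List Nat)) (st : List Nat) : Nat → Nat → Bool :=
  List.rec (motive := fun _ => Nat → Nat → Bool) (fun m m1 => Nat.beq m m1)
    (fun e _ ih m m1 =>
      hold (Nat.land (Nat.shiftRight e 16) 65535) fun i => hold (Nat.land e 65535) fun q =>
        band (Nat.beq (Nat.land (Nat.shiftRight m i) 1) 1)
          (band (moveOK D base cw gl q i (Nat.shiftRight e 32))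
            (hold (Nat.lor m (Nat.shiftLeft 1 q)) fun m' => ih m' m1))) st

/-- the mask of a list -/
noncomputable def maskL (l : List Nat) : Nat :=
  List.rec (motive := fun _ => Nat) 0 (fun i _ ih => Nat.lor ih (Nat.shiftLeft 1 i)) l

/-- every member below `n` is marked or listed -/
noncomputable def fullOK (good : List Nat) (m n : Nat) : Bool :=
  rangeB (fun i => Bool.rec (motive := fun _ => Bool) (memN i good) true
    (Nat.beq (Nat.land (Nat.shiftRight m i) 1) 1)) n 0

end Cfsg.Agent.Lib.Th67
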