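import Mathlib
import Cfsg.Agent.Lib.Th67.Back
import Cfsg.Agent.Lib.Th67.BackKernel

/-!
Soundness of the marking check: a member sent outside the class takes its orbit under the
stabiliser of the coset with it.
-/

set_option autoImplicit false

namespace Cfsg.Agent.Lib.Th67

open Cfsg.Agent.Lib.ThK83 (Kbar rep tabs nth memN memN_iff nth_eq hold_eq band_eq beqN_iff bltN_iff
  rangeB_spec)

theorem bit_iff {m i : ℕ} : Nat.beq (Nat.land (Nat.shiftRight m i) 1) 1 = true ↔ m.testBit i = true := by
  rw [beqN_iff]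
  show (m >>> i) &&& 1 = 1 ↔ _
  rw [Nat.and_one_is_mod, Nat.shiftRight_eq_div_pow, Nat.testBit_eq_decide_div_mod_eq,
    decide_eq_true_iff]

theorem maskL_bit : ∀ {l : List ℕ} {p : ℕ}, (maskL l).testBit p = true → p ∈ l
  | [], p, h => by simp [maskL] at h
  | i :: l, p, h => by
    have h' : (maskL l ||| 1 <<< i).testBit p = true := h
    simp only [Nat.testBit_or, Nat.one_shiftLeft, Nat.testBit_two_pow, Bool.or_eq_true,
      decide_eq_true_iff] at h'
    rcases h' with h' | rfl
    · exact List.mem_cons_of_mem _ (maskL_bit h')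
    · exact List.mem_cons_self ..

variable {G : Type*} [Group G] (φ : Kbar →* G) {base : List ℕ} {cw : List (List ℕ × List ℕ)}
  {keys : List ℕ} {n : ℕ}

/-- sent outside the class -/
def Bad (cw : List (List ℕ × List ℕ)) (s : G) (i : ℕ) : Prop :=
  s⁻¹ * φ (rep.ev (memW cw i)) * s ∉ classIn φ.range (φ (rep.f 0))

theorem markRun_sound (C : ClassCert base cw keys n) {s : G} {gl : List (List ℕ)}
    (hgl : ∀ w ∈ gl, s⁻¹ * φ (rep.ev w) * s ∈ φ.range) :
    ∀ (st : List ℕ) (m m1 : ℕ), markRun tabs base cw gl st m m1 = true →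
      (∀ p, m.testBit p = true → Bad φ cw s p) → ∀ p, m1.testBit p = true → Bad φ cw s p
  | [], m, m1, h, hm => by
    have e : m = m1 := beqN_iff.1 h
    subst e; exact hm
  | e :: st, m, m1, h, hm => by
    have h' : ThK83.hold (Nat.land (Nat.shiftRight e 16) 65535) (fun i =>
        ThK83.hold (Nat.land e 65535) fun q =>
          ThK83.band (Nat.beq (Nat.land (Nat.shiftRight m i) 1) 1)
            (ThK83.band (moveOK tabs base cw gl q i (Nat.shiftRight e 32))
              (ThK83.hold (Nat.lor m (Nat.shiftLeft 1 q)) fun m' =>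
                markRun tabs base cw gl st m' m1))) = true := h
    simp only [hold_eq, band_eq, Bool.and_eq_true] at h'
    obtain ⟨hi, hmv, hrest⟩ := h'
    set i := Nat.land (Nat.shiftRight e 16) 65535
    set q := Nat.land e 65535
    set g := Nat.shiftRight e 32
    refine markRun_sound C hgl st _ m1 hrest fun p hp => ?_
    have hp' : (m ||| 1 <<< q).testBit p = true := hp
    simp only [Nat.testBit_or, Nat.one_shiftLeft, Nat.testBit_two_pow, Bool.or_eq_true,
      decide_eq_true_iff] at hp'
    rcases hp' with hp' | rfl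
    · exact hm p hp'
    · simp only [moveOK, band_eq, Bool.and_eq_true, bltN_iff] at hmv
      have he := ev_eq_of_key C.hb C.hI (beqN_iff.1 hmv.2)
      rw [rep.ev_append, rep.ev_append] at he
      have hbad := hm i (bit_iff.1 hi)
      intro hq
      refine hbad ?_
      obtain ⟨y, hy⟩ : s⁻¹ * φ (rep.ev (nth [] gl g)) * s ∈ φ.range := by
        by_cases hg : g < gl.length
        · rw [nth_eq, List.getD_eq_getElem _ _ hg]
          exact hgl _ (List.getElem_mem hg)
        · rw [nth_eq, List.getD_eq_default _ _ (by omega), ThK83.Rep.ev_nil, map_one]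
          simp
      have e2 : s⁻¹ * φ (rep.ev (memW cw i)) * s =
          φ y * (s⁻¹ * φ (rep.ev (memW cw q)) * s) * (φ y)⁻¹ := by
        rw [hy, show rep.ev (memW cw i) =
          rep.ev (nth [] gl g) * rep.ev (memW cw q) * (rep.ev (nth [] gl g))⁻¹ from
          eq_mul_inv_of_mul_eq he, map_mul, map_mul, map_inv]
        group
      rw [e2]
      exact classIn_conj _ _ ⟨y, rfl⟩ hq

/-- only the listed members are sent back -/
theorem good_of_marks (C : ClassCert base cw keys n) {s : G} {gl : List (List ℕ)}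
    (hgl : ∀ w ∈ gl, s⁻¹ * φ (rep.ev w) * s ∈ φ.range) {reps good st : List ℕ} {m1 : ℕ}
    (hreps : ∀ i ∈ reps, Bad φ cw s i) (hrun : markRun tabs base cw gl st (maskL reps) m1 = true)
    (hfull : fullOK good m1 n = true) :
    ∀ i < n, s⁻¹ * φ (rep.ev (memW cw i)) * s ∈ classIn φ.range (φ (rep.f 0)) → i ∈ good := by
  intro i hi hback
  have h := rangeB_spec hfull i (Nat.zero_le _) (by omega)
  cases hb : Nat.beq (Nat.land (Nat.shiftRight m1 i) 1) 1 with
  | false => rw [hb] at h; exact memN_iff.1 h
  | true =>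
    exact absurd hback (markRun_sound φ C hgl st _ _ hrun (fun p hp => hreps p (maskL_bit hp)) i
      (bit_iff.1 hb))

/-- a member is sent outside when an invariant of its image is not one of the class -/
theorem bad_of_table (C : ClassCert base cw keys n) {α : Type*} (F : G → α) (tk : List α)
    (htk : ∀ q < n, F (φ (rep.ev (memW cw q))) ∈ tk) {s : G} {i : ℕ}
    (h : F (s⁻¹ * φ (rep.ev (memW cw i)) * s) ∉ tk) : Bad φ cw s i := by
  intro hb
  obtain ⟨q, hq, e⟩ := mem_classIn_iff φ C hb
  exact h (e ▸ htk q hq)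

end Cfsg.Agent.Lib.Th67
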