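import Cfsg.Agent.Lib.Th67.ClassData
import Cfsg.Agent.Lib.ThK83.Tables

/-! The class checks, part 0. -/

set_option maxRecDepth 100000

namespace Cfsg.Agent.Lib.Th67

open Cfsg.Agent.Lib.ThK83 (rangeB tabs)

theorem classMem : rangeB (memOK tabs classBase classW classK) 819 0 = true := by
  decide +kernel

theorem classInc : incB classK = true := by
  decide +kernel

theorem classStart : Nat.beq (Cfsg.Agent.Lib.ThK83.nth 0 classK 4) (keyW tabs classBase [1]) = true := by
  decide +kernel

theorem classStep0 : rangeB (stepOK tabs classBase classW classK 1 1 classImg0) 819 0 = true := by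
  decide +kernel

end Cfsg.Agent.Lib.Th67
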