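import Cfsg.Agent.Lib.Th67.ClassData
import Cfsg.Agent.Lib.ThK83.Tables

/-! The class checks, part 1. -/

set_option maxRecDepth 100000

namespace Cfsg.Agent.Lib.Th67

open Cfsg.Agent.Lib.ThK83 (rangeB tabs)

theorem classStep1 : rangeB (stepOK tabs classBase classW classK 2 2 classImg1) 819 0 = true := by
  decide +kernel

theorem classStep2 : rangeB (stepOK tabs classBase classW classK 3 3 classImg2) 819 0 = true := by
  decide +kernel

theorem classStep3 : rangeB (stepOK tabs classBase classW classK 4 4 classImg3) 819 0 = true := by
  decide +kernel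

end Cfsg.Agent.Lib.Th67
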