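import Cfsg.Agent.Lib.Th67.ClassData
import Cfsg.Agent.Lib.ThK83.Tables

/-! The class checks, part 2. -/

set_option maxRecDepth 100000

namespace Cfsg.Agent.Lib.Th67

open Cfsg.Agent.Lib.ThK83 (rangeB tabs)

theorem classStep4 : rangeB (stepOK tabs classBase classW classK 5 5 classImg4) 819 0 = true := by
  decide +kernel

theorem classStep5 : rangeB (stepOK tabs classBase classW classK 6 7 classImg5) 819 0 = true := by
  decide +kernel

theorem classStep7 : rangeB (stepOK tabs classBase classW classK 8 9 classImg7) 819 0 = true := by
  decide +kernel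

end Cfsg.Agent.Lib.Th67
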