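import Cfsg.Agent.Lib.Th67.Class
import Cfsg.Agent.Lib.Th67.ClassCheck0
import Cfsg.Agent.Lib.Th67.ClassCheck1
import Cfsg.Agent.Lib.Th67.ClassCheck2
import Cfsg.Agent.Lib.ThK83.Kbar

/-! The class of `a` in `Kbar` has 819 members and its centraliser at most 774144. -/

set_option autoImplicit false

namespace Cfsg.Agent.Lib.Th67

open Cfsg.Agent.Lib.ThK83 (Kbar rep tabs rangeB_spec beqN_iff)

theorem classW_len : classW.length = 819 := by decide +kernel

theorem classK_len : classK.length = 819 := by decide +kernel

theorem classBase_eq : classBase = ThK83.base := by decide +kernel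

theorem classCert : ClassCert classBase classW classK 819 where
  hb := classBase_eq ▸ ThK83.base_lt
  hI := classBase_eq ▸ ThK83.baseInj
  len := classK_len
  mem i hi := rangeB_spec classMem i (Nat.zero_le _) (by omega)
  step l hl := by
    simp only [List.mem_cons, List.not_mem_nil, or_false] at hl
    rcases hl with rfl | rfl | rfl | rfl | rfl | rfl | rfl
    exacts [⟨classImg0, fun i hi => rangeB_spec classStep0 i (Nat.zero_le _) (by omega)⟩,
      ⟨classImg1, fun i hi => rangeB_spec classStep1 i (Nat.zero_le _) (by omega)⟩,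
      ⟨classImg2, fun i hi => rangeB_spec classStep2 i (Nat.zero_le _) (by omega)⟩,
      ⟨classImg3, fun i hi => rangeB_spec classStep3 i (Nat.zero_le _) (by omega)⟩,
      ⟨classImg4, fun i hi => rangeB_spec classStep4 i (Nat.zero_le _) (by omega)⟩,
      ⟨classImg5, fun i hi => rangeB_spec classStep5 i (Nat.zero_le _) (by omega)⟩,
      ⟨classImg7, fun i hi => rangeB_spec classStep7 i (Nat.zero_le _) (by omega)⟩]
  start := ⟨4, by omega, beqN_iff.1 classStart⟩
  inc := classInc

theorem card_cent_a : Nat.card {x : Kbar // x * rep.f 0 = rep.f 0 * x} ≤ 774144 := by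
  have h := classCert.card_cent_le
  rw [ThK83.card_Kbar] at h
  omega

end Cfsg.Agent.Lib.Th67
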