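import Cfsg.Agent.Lib.ThK83.Kernel
import Cfsg.Agent.Lib.Th22.Code

/-!
Kernel evaluation of one row of a product in the representation over the field with three elements:
a vector is a pair of bit masks (entries 1, entries 2), a matrix the list of its rows.
-/

namespace Cfsg.Agent.Lib.Th67

open Cfsg.Agent.Lib.ThK83 (hold band forallB rangeB nth memN)
open Cfsg.Agent.Lib.Th22 (addP addN T getK)

/-- vector times matrix, handed to `k` -/
noncomputable def vmul {α : Type} (rows : List (Nat × Nat)) (k : Nat → Nat → α) :
    Nat → Nat → Nat → Nat → α :=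
  List.rec (motive := fun _ => Nat → Nat → Nat → Nat → α) (fun _ _ ap an => k ap an)
    (fun r _ ih P N ap an => hold (Nat.shiftRight P 1) fun P' => hold (Nat.shiftRight N 1) fun N' =>
      Bool.rec (motive := fun _ => α)
        (Bool.rec (motive := fun _ => α) (ih P' N' ap an)
          (hold (addP ap an r.2 r.1) fun x => hold (addN ap an r.2 r.1) fun y => ih P' N' x y)
          (Nat.beq (Nat.land N 1) 1))
        (hold (addP ap an r.1 r.2) fun x => hold (addN ap an r.1 r.2) fun y => ih P' N' x y)
        (Nat.beq (Nat.land P 1) 1)) rows

/-- the low 248 bits -/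
noncomputable def keyMask : Nat := Nat.sub (Nat.pow 2 248) 1

/-- the number standing for a vector -/
noncomputable def vKey (P N : Nat) : Nat :=
  Nat.add (Nat.land P keyMask) (Nat.mul (Nat.pow 2 248) (Nat.land N keyMask))

/-- a vector carried along a word, handed to `k` -/
noncomputable def vWord {α : Type} (ms : List (List (Nat × Nat))) (w : List Nat)
    (k : Nat → Nat → α) : Nat → Nat → α :=
  List.rec (motive := fun _ => Nat → Nat → α) k
    (fun l _ ih P N => vmul (nth [] ms l) ih P N 0 0) w

/-- the key of the first row along a word -/
noncomputable def rowKey (ms : List (List (Nat × Nat))) (w : List Nat) : Nat :=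
  vWord ms w vKey 1 0

/-- the letter for the inverse -/
noncomputable def invE (l : Nat) : Nat := nth 0 [0, 1, 2, 3, 4, 6, 5, 8, 7, 10, 9] l

/-- the inverse word -/
noncomputable def invWordE (w : List Nat) : List Nat :=
  List.rec (motive := fun _ => List Nat) [] (fun l _ ih => ih ++ [invE l]) w

/-- the listed rows are those of the columns in the tree -/
noncomputable def rowsOK (t : T) (rows : List (Nat × Nat)) : Bool :=
  band (Nat.beq rows.length 248) (rangeB (fun j => getK t j fun p n =>
    (List.rec (motive := fun _ => Nat → Nat → Bool) (fun _ _ => true)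
      (fun r _ ih p n => hold (Nat.shiftRight p 1) fun p' => hold (Nat.shiftRight n 1) fun n' =>
        band (band (Nat.beq (Nat.land (Nat.shiftRight r.1 j) 1) (Nat.land p 1))
          (Nat.beq (Nat.land (Nat.shiftRight r.2 j) 1) (Nat.land n 1))) (ih p' n')) rows) p n) 248 0)

end Cfsg.Agent.Lib.Th67
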