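import Cfsg.Agent.Lib.Th67.BackKernel
import Cfsg.Agent.Lib.Th67.VecKernel

/-!
Kernel checks for the double cosets: finite sets of points closed under the stabiliser, members
moving a point out of them, and the orders of products of two members.
-/

namespace Cfsg.Agent.Lib.Th67

open Cfsg.Agent.Lib.ThK83 (Tabs hold band forallB rangeB nth memN decode)

/-- the points are closed under the words -/
noncomputable def orbOK (D : Tabs) (gl : List (List Nat)) (pts : List Nat) : Bool :=
  forallB (fun p => band (Nat.blt p 17199) (forallB (fun g => memN (D.go g p) pts) gl)) pts

/-- the word moves the first point out of the set -/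
noncomputable def outOK (D : Tabs) (u : List Nat) (pts : List Nat) : Bool :=
  band (memN (nth 0 pts 0) pts)
    (Bool.rec (motive := fun _ => Bool) true false (memN (D.go u (nth 0 pts 0)) pts))

/-- the word moves a point out of one of the sets -/
noncomputable def outAny (D : Tabs) (u : List Nat) (orbs : List (List Nat)) : Bool :=
  List.rec (motive := fun _ => Bool) false
    (fun pts _ ih => Bool.rec (motive := fun _ => Bool) ih true (outOK D u pts)) orbs

/-- the third or the fourth power of the word fixes the base -/
noncomputable def powOK (D : Tabs) (base : List Nat) (u : List Nat) : Bool :=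
  Bool.rec (motive := fun _ => Bool)
    (Nat.beq (keyW D base (u ++ u ++ u ++ u)) (keyW D base [])) true
    (Nat.beq (keyW D base (u ++ u ++ u)) (keyW D base []))

/-- the letters of `h⁻¹ (W x W⁻¹) h a` -/
noncomputable def segW (h W x : List Nat) : List Nat :=
  invWordE (decode h) ++ W ++ decode x ++ invWordE W ++ decode h ++ [0]

/-- neither the third nor the fourth power of the word has the first row of the identity -/
noncomputable def powBad (ms : List (List (Nat × Nat))) (u : List Nat) : Bool :=
  band (Bool.rec (motive := fun _ => Bool) true false
      (Nat.beq (rowKey ms (u ++ u ++ u)) (rowKey ms [])))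
    (Bool.rec (motive := fun _ => Bool) true false
      (Nat.beq (rowKey ms (u ++ u ++ u ++ u)) (rowKey ms [])))

/-- the letters of the representative of a coset from the predecessors -/
noncomputable def repOK (par : List (Nat × List Nat)) (wl : List (List Nat)) (j : Nat) : Bool :=
  band (Nat.blt (nth (0, []) par j).1 (Nat.succ j))
    (Cfsg.Agent.Lib.ThK83.eqLN (nth [] wl (Nat.succ j))
      (nth [] wl (nth (0, []) par j).1 ++ decode (nth (0, []) par j).2 ++ [9]))

end Cfsg.Agent.Lib.Th67
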