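import Cfsg.Agent.Lib.Th22.Data
import Cfsg.Agent.Lib.Th67.VecKernel
import Cfsg.Agent.Lib.Th67.VecData

/-! The listed rows are the rows of the eleven matrices. -/

set_option maxRecDepth 100000

namespace Cfsg.Agent.Lib.Th67

open Cfsg.Agent.Lib.Th22 (mul idT)

theorem rowsA_ok : rowsOK (mul idT Th22.gA) rowsA = true := by
  decide +kernel

theorem rowsB_ok : rowsOK (mul idT Th22.gB) rowsB = true := by
  decide +kernel

theorem rowsC_ok : rowsOK (mul idT Th22.gC) rowsC = true := by
  decide +kernel

theorem rowsD_ok : rowsOK (mul idT Th22.gD) rowsD = true := by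
  decide +kernel

theorem rowsE_ok : rowsOK (mul idT Th22.gE) rowsE = true := by
  decide +kernel

theorem rowsS_ok : rowsOK (mul idT Th22.gS) rowsS = true := by
  decide +kernel

theorem rowsSi_ok : rowsOK (mul idT Th22.gSi) rowsSi = true := by
  decide +kernel

theorem rowsT_ok : rowsOK (mul idT Th22.gT) rowsT = true := by
  decide +kernel

theorem rowsTi_ok : rowsOK (mul idT Th22.gTi) rowsTi = true := by
  decide +kernel

theorem rowsU_ok : rowsOK (mul idT Th22.gU) rowsU = true := by
  decide +kernel

theorem rowsUi_ok : rowsOK (mul idT Th22.gUi) rowsUi = true := by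
  decide +kernel

end Cfsg.Agent.Lib.Th67
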