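import Mathlib
import Cfsg.Agent.Lib.ThK83.Perm
import Cfsg.Agent.Lib.Th22.DataOK
import Cfsg.Agent.Lib.Th22.Rep
import Cfsg.Agent.Lib.Th67.VecRows

/-!
Soundness of the evaluation of the first row of a word in the representation over three elements.
-/

set_option autoImplicit false

namespace Cfsg.Agent.Lib.Th67

open Cfsg.Agent.Lib.ThK83 (hold_eq band_eq beqN_iff rangeB_spec nth nth_eq)
open Cfsg.Agent.Lib.Th22 (T CT val WF getK toMat toMatG addP addN add_spec wf_swap val_swap idT mul)

/-- column `j` of the listed rows, at row `i` -/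
def rowVal (rows : List (ℕ × ℕ)) (i j : ℕ) : ZMod 3 :=
  val (rows.getD i (0, 0)).1 (rows.getD i (0, 0)).2 j

/-- every row is a consistent vector -/
def RowsWF (rows : List (ℕ × ℕ)) : Prop := ∀ r ∈ rows, ∀ j < 248, r.1.testBit j = true → r.2.testBit j = false

theorem val_congr {p n q m i j : ℕ} (h1 : p.testBit i = q.testBit j) (h2 : n.testBit i = m.testBit j) :
    val p n i = val q m j := by simp [val, h1, h2]

theorem land_one_testBit {a b i j : ℕ}
    (h : Nat.land (Nat.shiftRight a i) 1 = Nat.land (Nat.shiftRight b j) 1) :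
    a.testBit i = b.testBit j := by
  have h' : (a >>> i) &&& 1 = (b >>> j) &&& 1 := h
  rw [Nat.and_one_is_mod, Nat.and_one_is_mod, Nat.shiftRight_eq_div_pow, Nat.shiftRight_eq_div_pow] at h'
  rw [Nat.testBit_eq_decide_div_mod_eq, Nat.testBit_eq_decide_div_mod_eq, h']

theorem shift_zero (a : ℕ) : Nat.land (Nat.shiftRight a 0) 1 = Nat.land a 1 := rfl

theorem rowsLoop_sound (j : ℕ) : ∀ (rows : List (ℕ × ℕ)) (p n : ℕ),
    (List.rec (motive := fun _ => ℕ → ℕ → Bool) (fun _ _ => true)
      (fun r _ ih p n => ThK83.hold (Nat.shiftRight p 1) fun p' => ThK83.hold (Nat.shiftRight n 1) fun n' =>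
        ThK83.band (ThK83.band (Nat.beq (Nat.land (Nat.shiftRight r.1 j) 1) (Nat.land p 1))
          (Nat.beq (Nat.land (Nat.shiftRight r.2 j) 1) (Nat.land n 1))) (ih p' n')) rows) p n = true →
    ∀ i < rows.length, (rows.getD i (0, 0)).1.testBit j = p.testBit i ∧
      (rows.getD i (0, 0)).2.testBit j = n.testBit i
  | [], _, _, _, i, hi => absurd hi (Nat.not_lt_zero i)
  | r :: rows, p, n, h, i, hi => by
    simp only [hold_eq, band_eq, Bool.and_eq_true, beqN_iff] at h
    obtain ⟨⟨h1, h2⟩, h3⟩ := h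
    cases i with
    | zero =>
      exact ⟨land_one_testBit (h1.trans (shift_zero p).symm),
        land_one_testBit (h2.trans (shift_zero n).symm)⟩
    | succ i =>
      obtain ⟨a, b⟩ := rowsLoop_sound j rows (Nat.shiftRight p 1) (Nat.shiftRight n 1)
        (by simp only [hold_eq, band_eq]; exact h3) i (by simpa using hi)
      rw [List.getD_cons_succ, a, b]
      constructor <;>
      · show Nat.testBit (_ >>> 1) i = _
        rw [Nat.testBit_shiftRight, Nat.add_comm]

theorem rowsOK_spec {t : T} (ht : Th22.WFT t) {rows : List (ℕ × ℕ)} (h : rowsOK t rows = true) :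
    rows.length = 248 ∧ RowsWF rows ∧ ∀ i j : Fin 248, toMat t i j = rowVal rows i j := by
  rw [rowsOK, band_eq, Bool.and_eq_true, beqN_iff] at h
  obtain ⟨hlen, hr⟩ := h
  have key : ∀ j < 248, ∀ i < 248,
      ((rows.getD i (0, 0)).1.testBit j = (getK t j fun p _ => p).testBit i ∧
        (rows.getD i (0, 0)).2.testBit j = (getK t j fun _ n => n).testBit i) := by
    intro j hj i hi
    have h' := rangeB_spec hr j (Nat.zero_le _) (by omega)
    rw [Th22.getK_eq] at h'
    exact rowsLoop_sound j rows _ _ h' i (by omega)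
  refine ⟨hlen, fun r hr' j hj hb => ?_, fun i j => ?_⟩
  · obtain ⟨i, hi, rfl⟩ := List.getElem_of_mem hr'
    obtain ⟨h1, h2⟩ := key j hj i (hlen ▸ hi)
    rw [List.getD_eq_getElem _ _ hi] at h1 h2
    have hwf := ht j
    rw [Th22.getK_eq] at hwf
    rw [h2, hwf i (h1 ▸ hb)]
  · obtain ⟨h1, h2⟩ := key j j.2 i i.2
    simp only [toMat, Matrix.of_apply, rowVal]
    rw [Th22.getK_eq]
    exact (val_congr h1 h2).symm

/-- a vector standing in the bits below 248 -/
def WF248 (p n : ℕ) : Prop := ∀ j < 248, p.testBit j = true → n.testBit j = false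

theorem add_spec248 {ap an bp bn : ℕ} (ha : WF248 ap an) (hb : WF248 bp bn) :
    WF248 (addP ap an bp bn) (addN ap an bp bn) ∧
      ∀ j < 248, val (addP ap an bp bn) (addN ap an bp bn) j = val ap an j + val bp bn j := by
  have hP : ∀ j, Nat.testBit (addP ap an bp bn) j = ((an.testBit j || bn.testBit j) ^^
      ((ap.testBit j || bn.testBit j) ^^ (an.testBit j || bp.testBit j))) := fun j => by
    show Nat.testBit ((an ||| bn) ^^^ ((ap ||| bn) ^^^ (an ||| bp))) j = _
    simp [Nat.testBit_xor, Nat.testBit_or]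
  have hN : ∀ j, Nat.testBit (addN ap an bp bn) j = ((ap.testBit j || bp.testBit j) ^^
      ((ap.testBit j || bn.testBit j) ^^ (an.testBit j || bp.testBit j))) := fun j => by
    show Nat.testBit ((ap ||| bp) ^^^ ((ap ||| bn) ^^^ (an ||| bp))) j = _
    simp [Nat.testBit_xor, Nat.testBit_or]
  refine ⟨fun j hj => ?_, fun j hj => ?_⟩
  · rw [hP, hN]
    have := ha j hj; have := hb j hj
    cases h1 : ap.testBit j <;> cases h2 : an.testBit j <;> cases h3 : bp.testBit j <;>
      cases h4 : bn.testBit j <;> simp_all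
  · simp only [val, hP, hN]
    have := ha j hj; have := hb j hj
    cases h1 : ap.testBit j <;> cases h2 : an.testBit j <;> cases h3 : bp.testBit j <;>
      cases h4 : bn.testBit j <;> simp_all <;> decide

theorem wf248_swap {p n : ℕ} (h : WF248 p n) : WF248 n p := fun j hj hb => by
  cases hp : p.testBit j with
  | false => rfl
  | true => exact absurd hb (by simp [h j hj hp])

theorem val_swap248 {p n j : ℕ} (h : WF248 p n) (hj : j < 248) : val n p j = 2 * val p n j := by
  have := h j hj
  simp only [val]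
  cases hp : p.testBit j <;> cases hn : n.testBit j <;> simp_all <;> decide

/-- what `vmul` computes -/
noncomputable def vmSpec : List (ℕ × ℕ) → ℕ → ℕ → ℕ → ℕ → ℕ × ℕ
  | [], _, _, ap, an => (ap, an)
  | r :: rows, P, N, ap, an =>
    if P.testBit 0 then vmSpec rows (P >>> 1) (N >>> 1) (addP ap an r.1 r.2) (addN ap an r.1 r.2)
    else if N.testBit 0 then vmSpec rows (P >>> 1) (N >>> 1) (addP ap an r.2 r.1) (addN ap an r.2 r.1)
    else vmSpec rows (P >>> 1) (N >>> 1) ap an

theorem beq_land_one (a : ℕ) : Nat.beq (Nat.land a 1) 1 = a.testBit 0 := by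
  rw [Nat.testBit_zero, Bool.eq_iff_iff, beqN_iff, decide_eq_true_iff]
  show a &&& 1 = 1 ↔ _
  rw [Nat.and_one_is_mod]

theorem vmul_eq {α : Type} (k : ℕ → ℕ → α) : ∀ (rows : List (ℕ × ℕ)) (P N ap an : ℕ),
    vmul rows k P N ap an = k (vmSpec rows P N ap an).1 (vmSpec rows P N ap an).2
  | [], _, _, _, _ => rfl
  | r :: rows, P, N, ap, an => by
    have e : vmul (r :: rows) k P N ap an =
        ThK83.hold (Nat.shiftRight P 1) (fun P' => ThK83.hold (Nat.shiftRight N 1) fun N' =>
          Bool.rec (motive := fun _ => α)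
            (Bool.rec (motive := fun _ => α) (vmul rows k P' N' ap an)
              (ThK83.hold (addP ap an r.2 r.1) fun x => ThK83.hold (addN ap an r.2 r.1) fun y =>
                vmul rows k P' N' x y)
              (Nat.beq (Nat.land N 1) 1))
            (ThK83.hold (addP ap an r.1 r.2) fun x => ThK83.hold (addN ap an r.1 r.2) fun y =>
              vmul rows k P' N' x y)
            (Nat.beq (Nat.land P 1) 1)) := rfl
    rw [e, vmSpec]
    simp only [hold_eq, beq_land_one]
    cases P.testBit 0 <;> cases N.testBit 0 <;> simp [vmul_eq k rows] <;> rfl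

theorem vmSpec_val : ∀ (rows : List (ℕ × ℕ)), RowsWF rows → ∀ (P N ap an : ℕ), WF248 ap an →
    (∀ i < rows.length, P.testBit i = true → N.testBit i = false) →
    WF248 (vmSpec rows P N ap an).1 (vmSpec rows P N ap an).2 ∧
      ∀ j < 248, val (vmSpec rows P N ap an).1 (vmSpec rows P N ap an).2 j =
        val ap an j + ∑ i ∈ Finset.range rows.length, val P N i * rowVal rows i j
  | [], _, P, N, ap, an, hA, _ => ⟨hA, fun j _ => by simp [vmSpec]⟩
  | r :: rows, hR, P, N, ap, an, hA, hPN => by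
    have hr : WF248 r.1 r.2 := hR r (List.mem_cons_self ..)
    have hR' : RowsWF rows := fun x hx => hR x (List.mem_cons_of_mem _ hx)
    have hPN' : ∀ i < rows.length, (P >>> 1).testBit i = true → (N >>> 1).testBit i = false := by
      intro i hi
      rw [Nat.testBit_shiftRight, Nat.testBit_shiftRight, Nat.add_comm 1 i]
      exact hPN (i + 1) (by simpa using hi)
    have hsum : ∀ j, ∑ i ∈ Finset.range (r :: rows).length, val P N i * rowVal (r :: rows) i j =
        val P N 0 * val r.1 r.2 j +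
          ∑ i ∈ Finset.range rows.length, val (P >>> 1) (N >>> 1) i * rowVal rows i j := by
      intro j
      rw [List.length_cons, Finset.sum_range_succ', add_comm]
      congr 1
      refine Finset.sum_congr rfl fun i _ => ?_
      rw [val_congr (q := P >>> 1) (m := N >>> 1) (j := i)] <;>
        [skip; rw [Nat.testBit_shiftRight, Nat.add_comm]; rw [Nat.testBit_shiftRight, Nat.add_comm]]
      rfl
    have h0 := hPN 0 (by simp)
    rw [vmSpec]
    cases hP : P.testBit 0 with
    | true =>
      obtain ⟨hw, hv⟩ := add_spec248 hA hr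
      obtain ⟨g1, g2⟩ := vmSpec_val rows hR' (P >>> 1) (N >>> 1) _ _ hw hPN'
      refine ⟨by simpa using g1, fun j hj => ?_⟩
      simp only [if_true]
      rw [g2 j hj, hv j hj, hsum, show val P N 0 = 1 by simp [val, hP]]
      ring
    | false =>
      cases hN : N.testBit 0 with
      | true =>
        obtain ⟨hw, hv⟩ := add_spec248 hA (wf248_swap hr)
        obtain ⟨g1, g2⟩ := vmSpec_val rows hR' (P >>> 1) (N >>> 1) _ _ hw hPN'
        refine ⟨by simpa using g1, fun j hj => ?_⟩
        simp only [Bool.false_eq_true, if_false, if_true]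
        rw [g2 j hj, hv j hj, hsum, val_swap248 hr hj, show val P N 0 = 2 by simp [val, hP, hN]]
        ring
      | false =>
        obtain ⟨g1, g2⟩ := vmSpec_val rows hR' (P >>> 1) (N >>> 1) ap an hA hPN'
        refine ⟨by simpa using g1, fun j hj => ?_⟩
        simp only [Bool.false_eq_true, if_false]
        rw [g2 j hj, hsum, show val P N 0 = 0 by simp [val, hP, hN]]
        ring

/-- the matrices of the letters `0 .. 10` = `a b c d e s s⁻¹ t t⁻¹ u u⁻¹` -/
def ctMats : List CT :=
  [Th22.gA, Th22.gB, Th22.gC, Th22.gD, Th22.gE, Th22.gS, Th22.gSi, Th22.gT, Th22.gTi, Th22.gU, Th22.gUi]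

theorem letter_rows {l : ℕ} (hl : l < 11) : (nth [] rowMats l).length = 248 ∧
    RowsWF (nth [] rowMats l) ∧
      ∀ i j : Fin 248, toMatG (ctMats.getD l Th22.gA) i j = rowVal (nth [] rowMats l) i j := by
  have key : ∀ {g : CT} {rows : List (ℕ × ℕ)}, Th22.okG g = true → rowsOK (mul idT g) rows = true →
      rows.length = 248 ∧ RowsWF rows ∧ ∀ i j : Fin 248, toMatG g i j = rowVal rows i j := by
    intro g rows hg h
    obtain ⟨a, b, c⟩ := rowsOK_spec (Th22.wft_mul Th22.wft_idT g) h
    refine ⟨a, b, fun i j => ?_⟩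
    rw [← c i j, Th22.toMat_mul Th22.wft_idT hg, Th22.toMat_idT, one_mul]
  rw [nth_eq]
  interval_cases l
  exacts [key Th22.okA rowsA_ok, key Th22.okB rowsB_ok, key Th22.okC rowsC_ok, key Th22.okD rowsD_ok,
    key Th22.okE rowsE_ok, key Th22.okS rowsS_ok, key Th22.okSi rowsSi_ok, key Th22.okT rowsT_ok,
    key Th22.okTi rowsTi_ok, key Th22.okU rowsU_ok, key Th22.okUi rowsUi_ok]

variable {G : Type*} [Group G] (ψ : G →* GL (Fin 248) (ZMod 3))

/-- the first row of the image is the vector -/
def RowIs (g : G) (P N : ℕ) : Prop :=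
  WF248 P N ∧ ∀ j : Fin 248, ((ψ g : GL (Fin 248) (ZMod 3)) : Matrix (Fin 248) (Fin 248) (ZMod 3)) 0 j = val P N j

/-- the letters act through the listed matrices -/
def LetOK (L : ℕ → G) : Prop :=
  ∀ l < 11, ((ψ (L l) : GL (Fin 248) (ZMod 3)) : Matrix (Fin 248) (Fin 248) (ZMod 3)) =
    toMatG (ctMats.getD l Th22.gA)

variable {ψ}

theorem rowIs_one : RowIs ψ 1 1 0 := by
  refine ⟨fun j _ _ => Nat.zero_testBit j, fun j => ?_⟩
  rw [map_one, Units.val_one, Matrix.one_apply, val, Nat.zero_testBit]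
  by_cases h : j = 0
  · subst h; simp
  · have : (j : ℕ) ≠ 0 := fun e => h (Fin.ext e)
    rw [if_neg (fun e => h e.symm), Nat.testBit_one_eq_true_iff_self_eq_zero.not.2 this |> Bool.eq_false_iff.2]
    rfl

theorem rowIs_step {L : ℕ → G} (hL : LetOK ψ L) {g : G} {P N : ℕ} (h : RowIs ψ g P N) {l : ℕ}
    (hl : l < 11) : RowIs ψ (g * L l) (vmSpec (nth [] rowMats l) P N 0 0).1
      (vmSpec (nth [] rowMats l) P N 0 0).2 := by
  obtain ⟨hlen, hwf, hval⟩ := letter_rows hl
  obtain ⟨g1, g2⟩ := vmSpec_val _ hwf P N 0 0 (fun j _ hb => by simp at hb)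
    (fun i hi => h.1 i (hlen ▸ hi))
  refine ⟨g1, fun j => ?_⟩
  rw [g2 j j.2, map_mul, Units.val_mul, hL l hl, Matrix.mul_apply, hlen, Finset.sum_range]
  rw [show val 0 0 (j : ℕ) = 0 by simp [val], zero_add]
  refine Finset.sum_congr rfl fun i _ => ?_
  rw [h.2 i, hval]

theorem rowIs_key {g : G} {P N Q M : ℕ} (h : RowIs ψ g P N) (h' : RowIs ψ g Q M) :
    vKey P N = vKey Q M := by
  have hb : ∀ j < 248, P.testBit j = Q.testBit j ∧ N.testBit j = M.testBit j := by
    intro j hj
    have e : val P N j = val Q M j := (h.2 ⟨j, hj⟩).symm.trans (h'.2 ⟨j, hj⟩)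
    have := h.1 j hj
    have := h'.1 j hj
    revert e
    simp only [val]
    cases hp : P.testBit j <;> cases hn : N.testBit j <;> cases hq : Q.testBit j <;>
      cases hm : M.testBit j <;> simp_all <;> decide
  have hk : keyMask = 2 ^ 248 - 1 := rfl
  have hland : ∀ a b : ℕ, (∀ j < 248, a.testBit j = b.testBit j) →
      Nat.land a keyMask = Nat.land b keyMask := by
    intro a b hab
    show a &&& keyMask = b &&& keyMask
    rw [hk, Nat.and_two_pow_sub_one_eq_mod, Nat.and_two_pow_sub_one_eq_mod]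
    refine Nat.eq_of_testBit_eq fun j => ?_
    rw [Nat.testBit_mod_two_pow, Nat.testBit_mod_two_pow]
    by_cases hj : j < 248
    · rw [hab j hj]
    · simp [hj]
  unfold vKey
  rw [hland P Q fun j hj => (hb j hj).1, hland N M fun j hj => (hb j hj).2]

theorem vWord_spec {L : ℕ → G} (hL : LetOK ψ L) : ∀ (w : List ℕ) {g : G} {P N : ℕ},
    (∀ l ∈ w, l < 11) → RowIs ψ g P N → ∃ Q M, RowIs ψ (g * (w.map L).prod) Q M ∧
      ∀ {α : Type} (k : ℕ → ℕ → α), vWord rowMats w k P N = k Q M
  | [], g, P, N, _, h => ⟨P, N, by simpa using h, fun k => rfl⟩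
  | l :: w, g, P, N, hw, h => by
    obtain ⟨Q, M, h1, h2⟩ := vWord_spec hL w (fun x hx => hw x (List.mem_cons_of_mem _ hx))
      (rowIs_step hL h (hw l (List.mem_cons_self ..)))
    refine ⟨Q, M, by rwa [List.map_cons, List.prod_cons, ← mul_assoc], fun k => ?_⟩
    rw [← h2 k]
    exact vmul_eq _ _ _ _ _ _

/-- equal elements have equal keys -/
theorem rowKey_congr {L : ℕ → G} (hL : LetOK ψ L) {v w : List ℕ} (hv : ∀ l ∈ v, l < 11)
    (hw : ∀ l ∈ w, l < 11) (h : (v.map L).prod = (w.map L).prod) :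
    rowKey rowMats v = rowKey rowMats w := by
  obtain ⟨Q, M, h1, h2⟩ := vWord_spec hL v hv rowIs_one
  obtain ⟨Q', M', h1', h2'⟩ := vWord_spec hL w hw rowIs_one
  rw [rowKey, rowKey, h2 vKey, h2' vKey]
  rw [h] at h1
  exact rowIs_key h1 h1'

end Cfsg.Agent.Lib.Th67
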