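import Mathlib
import Cfsg.Agent.Lib.Th67.BackCheck
import Cfsg.Agent.Lib.Th67.Vec
import Cfsg.Agent.Lib.Th67.SideKernel

/-!
A member is sent outside the class when it moves a point out of a set closed under the stabiliser,
or when a product with a member has an order that two members never have.
-/

set_option autoImplicit false

namespace Cfsg.Agent.Lib.Th67

open Cfsg.Agent.Lib.ThK83 (Kbar rep tabs nth memN memN_iff nth_eq band_eq beqN_iff bltN_iff
  forallB_iff decode mem_decode_lt decode_append)

variable {G : Type*} [Group G] (φ : Kbar →* G) {base : List ℕ} {cw : List (List ℕ × List ℕ)}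
  {keys : List ℕ} {n : ℕ}

theorem orbOK_closed {gl : List (List ℕ)} {pts : List ℕ} (h : orbOK tabs gl pts = true) :
    ∀ g ∈ Subgroup.closure {g : Kbar | ∃ w ∈ gl, g = rep.ev w}, ∀ p ∈ pts, rep.pt g p ∈ pts := by
  intro g hg
  have hg' : g ∈ Submonoid.closure {g : Kbar | ∃ w ∈ gl, g = rep.ev w} := by
    rw [← Subgroup.closure_toSubmonoid_of_finite]; exact hg
  clear hg
  induction hg' using Submonoid.closure_induction with
  | mem x hx =>
    obtain ⟨w, hw, rfl⟩ := hx
    intro p hp
    have h' := forallB_iff.1 h p hp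
    simp only [band_eq, Bool.and_eq_true, bltN_iff, forallB_iff, memN_iff] at h'
    rw [← rep.go_eq w p h'.1]
    exact h'.2 w hw
  | one => intro p hp; rwa [rep.pt_one]
  | mul x y _ _ hx hy => intro p hp; rw [rep.pt_mul]; exact hy _ (hx p hp)

theorem not_mem_of_outOK {gl : List (List ℕ)} {pts : List ℕ} {u : List ℕ}
    (h : orbOK tabs gl pts = true) (h' : outOK tabs u pts = true) :
    rep.ev u ∉ Subgroup.closure {g : Kbar | ∃ w ∈ gl, g = rep.ev w} := by
  intro hu
  rw [outOK, band_eq, Bool.and_eq_true] at h'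
  obtain ⟨hp, hout⟩ := h'
  have hp' := memN_iff.1 hp
  have hlt : nth 0 pts 0 < 17199 := by
    have h2 := forallB_iff.1 h _ hp'
    rw [band_eq, Bool.and_eq_true] at h2
    exact bltN_iff.1 h2.1
  have h3 := orbOK_closed h _ hu _ hp'
  rw [← rep.go_eq u _ hlt] at h3
  rw [memN_iff.2 h3] at hout
  exact Bool.noConfusion hout

theorem not_mem_of_outAny {gl : List (List ℕ)} {u : List ℕ} :
    ∀ {orbs : List (List ℕ)}, (∀ pts ∈ orbs, orbOK tabs gl pts = true) →
      outAny tabs u orbs = true → rep.ev u ∉ Subgroup.closure {g : Kbar | ∃ w ∈ gl, g = rep.ev w}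
  | [], _, h => Bool.noConfusion h
  | pts :: orbs, ho, h => by
    cases hb : outOK tabs u pts with
    | true => exact not_mem_of_outOK (ho _ (List.mem_cons_self ..)) hb
    | false =>
      have h' : Bool.rec (motive := fun _ => Bool) (outAny tabs u orbs) true (outOK tabs u pts) = true := h
      rw [hb] at h'
      exact not_mem_of_outAny (fun p hp => ho p (List.mem_cons_of_mem _ hp)) h'

/-- a member moving a point out of an invariant set is bad -/
theorem bad_of_out {s : G} {gl orbs : List (List ℕ)}
    (hsub : ∀ x : Kbar, s⁻¹ * φ x * s ∈ φ.range →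
      x ∈ Subgroup.closure {g : Kbar | ∃ w ∈ gl, g = rep.ev w})
    (ho : ∀ pts ∈ orbs, orbOK tabs gl pts = true) {i : ℕ}
    (h : outAny tabs (memW cw i) orbs = true) : Bad φ cw s i := by
  exact not_back_of_notMem φ fun hm => not_mem_of_outAny ho h (hsub _ hm)

theorem prod_decode {L : ℕ → G} (hlet : ∀ l < 9, L l = φ (rep.f l)) (u : List ℕ) :
    ((decode u).map L).prod = φ (rep.ev u) := by
  rw [ThK83.Rep.ev, map_list_prod, List.map_map]
  exact congrArg List.prod (List.map_congr_left fun l hl => hlet l (mem_decode_lt hl))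

theorem prod_invWordE {L : ℕ → G} (hinv : ∀ l < 11, L (invE l) = (L l)⁻¹) :
    ∀ w : List ℕ, (∀ l ∈ w, l < 11) → ((invWordE w).map L).prod = ((w.map L).prod)⁻¹
  | [], _ => by simp [invWordE]
  | l :: w, h => by
    have e : invWordE (l :: w) = invWordE w ++ [invE l] := rfl
    rw [e, List.map_append, List.prod_append,
      prod_invWordE hinv w fun x hx => h x (List.mem_cons_of_mem _ hx)]
    simp [hinv l (h l (List.mem_cons_self ..))]

theorem invE_lt : ∀ l < 11, invE l < 11 := by decide +kernel

theorem invWordE_lt : ∀ w : List ℕ, (∀ l ∈ w, l < 11) → ∀ l ∈ invWordE w, l < 11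
  | [], _, l, hl => by simp [invWordE] at hl
  | x :: w, h, l, hl => by
    have e : invWordE (x :: w) = invWordE w ++ [invE x] := rfl
    rw [e, List.mem_append, List.mem_singleton] at hl
    rcases hl with hl | rfl
    · exact invWordE_lt w (fun y hy => h y (List.mem_cons_of_mem _ hy)) l hl
    · exact invE_lt x (h x (List.mem_cons_self ..))

theorem ev_a : rep.ev [1] = rep.f 0 := by
  have e : decode [1] = [0] := by decide +kernel
  simp [ThK83.Rep.ev, e]

/-- two members have a product whose third or fourth power is trivial -/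
theorem pow_member (C : ClassCert base cw keys n)
    (hpow : ∀ q < n, powOK tabs base (memW cw q ++ [1]) = true) {x : G}
    (hx : x ∈ classIn φ.range (φ (rep.f 0))) :
    (x * φ (rep.f 0)) ^ 3 = 1 ∨ (x * φ (rep.f 0)) ^ 4 = 1 := by
  obtain ⟨q, hq, rfl⟩ := mem_classIn_iff φ C hx
  have h := hpow q hq
  rw [powOK] at h
  set u := memW cw q ++ [1] with hu
  have eu : rep.ev u = rep.ev (memW cw q) * rep.f 0 := by rw [hu, rep.ev_append, ev_a]
  rw [← map_mul, ← eu, ← map_pow, ← map_pow]
  cases h3 : Nat.beq (keyW tabs base (u ++ u ++ u)) (keyW tabs base []) with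
  | true =>
    have e := ev_eq_of_key C.hb C.hI (beqN_iff.1 h3)
    rw [rep.ev_append, rep.ev_append, rep.ev_nil] at e
    exact Or.inl (by rw [pow_succ, pow_succ, pow_one, e, map_one])
  | false =>
    rw [h3] at h
    have e := ev_eq_of_key C.hb C.hI (beqN_iff.1 h)
    rw [rep.ev_append, rep.ev_append, rep.ev_append, rep.ev_nil] at e
    exact Or.inr (by rw [pow_succ, pow_succ, pow_succ, pow_one, e, map_one])

/-- a member sent to an element with a forbidden product is bad -/
theorem bad_of_pow (C : ClassCert base cw keys n)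
    (hpow : ∀ q < n, powOK tabs base (memW cw q ++ [1]) = true)
    {ψ : G →* GL (Fin 248) (ZMod 3)} {L : ℕ → G} (hL : LetOK ψ L)
    (hlet : ∀ l < 9, L l = φ (rep.f l)) (hinv : ∀ l < 11, L (invE l) = (L l)⁻¹)
    {hh W : List ℕ} (hW : ∀ l ∈ W, l < 11) {i : ℕ}
    (h : powBad rowMats (segW hh W (memW cw i)) = true) :
    Bad φ cw ((W.map L).prod)⁻¹ i := by
  intro hb
  rw [inv_inv] at hb
  set w := (W.map L).prod with hw
  set k := φ (rep.ev hh) with hk
  have hk' : k⁻¹ ∈ φ.range := inv_mem ⟨_, rfl⟩
  have hy := classIn_conj φ.range (φ (rep.f 0)) hk' hb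
  rw [inv_inv] at hy
  set seg := segW hh W (memW cw i) with hseg
  have h11 : ∀ u : List ℕ, ∀ l ∈ decode u, l < 11 := fun u l hl =>
    (mem_decode_lt hl).trans (by decide)
  have hlt : ∀ l ∈ seg, l < 11 := by
    intro l hl
    simp only [hseg, segW, List.mem_append, List.mem_singleton] at hl
    rcases hl with ((((hl | hl) | hl) | hl) | hl) | rfl
    · exact invWordE_lt _ (h11 hh) l hl
    · exact hW l hl
    · exact h11 _ l hl
    · exact invWordE_lt _ hW l hl
    · exact h11 _ l hl
    · decide
  have hprod : (seg.map L).prod =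
      k⁻¹ * (w * φ (rep.ev (memW cw i)) * w⁻¹) * k * φ (rep.f 0) := by
    simp only [hseg, segW, List.map_append, List.prod_append, List.map_cons, List.map_nil,
      List.prod_cons, List.prod_nil, mul_one]
    rw [prod_invWordE hinv _ (h11 hh), prod_invWordE hinv _ hW, prod_decode φ hlet,
      prod_decode φ hlet, hlet 0 (by decide)]
    simp only [mul_assoc, ← hk, ← hw]
  simp only [powBad, band_eq, Bool.and_eq_true] at h
  rcases pow_member φ C hpow hy with e | e
  · rw [← hprod, pow_succ, pow_succ, pow_one] at e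
    have := rowKey_congr hL (v := seg ++ seg ++ seg) (w := []) (by simp; exact hlt) (by simp)
      (by simpa [mul_assoc] using e)
    rw [beqN_iff.2 this] at h
    exact Bool.noConfusion h.1
  · rw [← hprod, pow_succ, pow_succ, pow_succ, pow_one] at e
    have := rowKey_congr hL (v := seg ++ seg ++ seg ++ seg) (w := []) (by simp; exact hlt) (by simp)
      (by simpa [mul_assoc] using e)
    rw [beqN_iff.2 this] at h
    exact Bool.noConfusion h.2

end Cfsg.Agent.Lib.Th67
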