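import Cfsg.Agent.Lib.Th67.SideKernel
import Cfsg.Agent.Lib.Th67.ClassData
import Cfsg.Agent.Lib.Th67.SideData
import Cfsg.Agent.Lib.ThK83.Tables

/-! Kernel checks for the double cosets, part 0. -/

set_option maxRecDepth 100000

namespace Cfsg.Agent.Lib.Th67

open Cfsg.Agent.Lib.ThK83 (tabs rangeB forallB nth band)

theorem sidePow : rangeB (fun q => powOK tabs classBase (memW classW q ++ [1])) 819 0 = true := by
  decide +kernel

theorem sideOrb : rangeB (fun j => forallB (orbOK tabs (nth [] glTh j)) (nth [] orbTh j)) 11 0 = true := by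
  decide +kernel

theorem sideOut : rangeB (fun j => forallB (fun i => band (Nat.blt i 819) (outAny tabs (memW classW i) (nth [] orbTh j))) (nth [] repTh j)) 11 0 = true := by
  decide +kernel

theorem sideRep : rangeB (repOK parTh wlTh) 10 0 = true := by
  decide +kernel

end Cfsg.Agent.Lib.Th67
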