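import Cfsg.Agent.Lib.Th67.SideKernel
import Cfsg.Agent.Lib.Th67.ClassData
import Cfsg.Agent.Lib.Th67.SideData
import Cfsg.Agent.Lib.ThK83.Tables

/-! Kernel checks for the double cosets, part 1. -/

set_option maxRecDepth 100000

namespace Cfsg.Agent.Lib.Th67

open Cfsg.Agent.Lib.ThK83 (tabs rangeB forallB nth band)

theorem sideRun1 : band (markRun tabs classBase classW (nth [] glTh 1) (nth [] stepTh 1)
    (maskL (nth [] repTh 1 ++ (nth [] inTh 1).map Prod.fst)) (nth 0 markTh 1))
    (fullOK (nth [] goodTh 1) (nth 0 markTh 1) 819) = true := by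
  decide +kernel

theorem sideRun2 : band (markRun tabs classBase classW (nth [] glTh 2) (nth [] stepTh 2)
    (maskL (nth [] repTh 2 ++ (nth [] inTh 2).map Prod.fst)) (nth 0 markTh 2))
    (fullOK (nth [] goodTh 2) (nth 0 markTh 2) 819) = true := by
  decide +kernel

end Cfsg.Agent.Lib.Th67
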