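import Cfsg.Agent.Lib.Th67.SideKernel
import Cfsg.Agent.Lib.Th67.ClassData
import Cfsg.Agent.Lib.Th67.SideData
import Cfsg.Agent.Lib.ThK83.Tables

/-! Kernel checks for the double cosets, part 2. -/

set_option maxRecDepth 100000

namespace Cfsg.Agent.Lib.Th67

open Cfsg.Agent.Lib.ThK83 (tabs rangeB forallB nth band)

theorem sideRun3 : band (markRun tabs classBase classW (nth [] glTh 3) (nth [] stepTh 3)
    (maskL (nth [] repTh 3 ++ (nth [] inTh 3).map Prod.fst)) (nth 0 markTh 3))
    (fullOK (nth [] goodTh 3) (nth 0 markTh 3) 819) = true := by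
  decide +kernel

theorem sideRun4 : band (markRun tabs classBase classW (nth [] glTh 4) (nth [] stepTh 4)
    (maskL (nth [] repTh 4 ++ (nth [] inTh 4).map Prod.fst)) (nth 0 markTh 4))
    (fullOK (nth [] goodTh 4) (nth 0 markTh 4) 819) = true := by
  decide +kernel

theorem sideRun5 : band (markRun tabs classBase classW (nth [] glTh 5) (nth [] stepTh 5)
    (maskL (nth [] repTh 5 ++ (nth [] inTh 5).map Prod.fst)) (nth 0 markTh 5))
    (fullOK (nth [] goodTh 5) (nth 0 markTh 5) 819) = true := by
  decide +kernel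

end Cfsg.Agent.Lib.Th67
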