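import Cfsg.Agent.Lib.Th67.SideKernel
import Cfsg.Agent.Lib.Th67.ClassData
import Cfsg.Agent.Lib.Th67.SideData
import Cfsg.Agent.Lib.ThK83.Tables

/-! Kernel checks for the double cosets, part 3. -/

set_option maxRecDepth 100000

namespace Cfsg.Agent.Lib.Th67

open Cfsg.Agent.Lib.ThK83 (tabs rangeB forallB nth band)

theorem sideRun6 : band (markRun tabs classBase classW (nth [] glTh 6) (nth [] stepTh 6)
    (maskL (nth [] repTh 6 ++ (nth [] inTh 6).map Prod.fst)) (nth 0 markTh 6))
    (fullOK (nth [] goodTh 6) (nth 0 markTh 6) 819) = true := by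
  decide +kernel

theorem sideRun7 : band (markRun tabs classBase classW (nth [] glTh 7) (nth [] stepTh 7)
    (maskL (nth [] repTh 7 ++ (nth [] inTh 7).map Prod.fst)) (nth 0 markTh 7))
    (fullOK (nth [] goodTh 7) (nth 0 markTh 7) 819) = true := by
  decide +kernel

theorem sideRun8 : band (markRun tabs classBase classW (nth [] glTh 8) (nth [] stepTh 8)
    (maskL (nth [] repTh 8 ++ (nth [] inTh 8).map Prod.fst)) (nth 0 markTh 8))
    (fullOK (nth [] goodTh 8) (nth 0 markTh 8) 819) = true := by
  decide +kernel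

end Cfsg.Agent.Lib.Th67
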