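import Cfsg.Agent.Lib.Th67.SideKernel
import Cfsg.Agent.Lib.Th67.ClassData
import Cfsg.Agent.Lib.Th67.SideData
import Cfsg.Agent.Lib.ThK83.Tables

/-! Kernel checks for the double cosets, part 4. -/

set_option maxRecDepth 100000

namespace Cfsg.Agent.Lib.Th67

open Cfsg.Agent.Lib.ThK83 (tabs rangeB forallB nth band)

theorem sideRun9 : band (markRun tabs classBase classW (nth [] glTh 9) (nth [] stepTh 9)
    (maskL (nth [] repTh 9 ++ (nth [] inTh 9).map Prod.fst)) (nth 0 markTh 9))
    (fullOK (nth [] goodTh 9) (nth 0 markTh 9) 819) = true := by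
  decide +kernel

theorem sideRun10 : band (markRun tabs classBase classW (nth [] glTh 10) (nth [] stepTh 10)
    (maskL (nth [] repTh 10 ++ (nth [] inTh 10).map Prod.fst)) (nth 0 markTh 10))
    (fullOK (nth [] goodTh 10) (nth 0 markTh 10) 819) = true := by
  decide +kernel

end Cfsg.Agent.Lib.Th67
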