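import Cfsg.Agent.Lib.Th67.SideKernel
import Cfsg.Agent.Lib.Th67.ClassData
import Cfsg.Agent.Lib.Th67.SideData
import Cfsg.Agent.Lib.ThK83.Tables
import Cfsg.Agent.Lib.Th67.VecData

/-! Kernel checks for the double cosets, part 5. -/

set_option maxRecDepth 100000

namespace Cfsg.Agent.Lib.Th67

open Cfsg.Agent.Lib.ThK83 (tabs rangeB forallB nth band)

theorem sidePowBad1 : forallB (fun e => band (Nat.blt e.1 819) (powBad rowMats (segW e.2 (nth [] wlTh 1) (memW classW e.1))))
    (nth [] inTh 1) = true := by
  decide +kernel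

theorem sidePowBad3 : forallB (fun e => band (Nat.blt e.1 819) (powBad rowMats (segW e.2 (nth [] wlTh 3) (memW classW e.1))))
    (nth [] inTh 3) = true := by
  decide +kernel

theorem sidePowBad4 : forallB (fun e => band (Nat.blt e.1 819) (powBad rowMats (segW e.2 (nth [] wlTh 4) (memW classW e.1))))
    (nth [] inTh 4) = true := by
  decide +kernel

end Cfsg.Agent.Lib.Th67
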