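import Mathlib
import Cfsg.Agent.Lib.Th55.Final
import Cfsg.Agent.Lib.Th19.HStructure
import Cfsg.Agent.Lib.Th67.ClassFacts
import Cfsg.Agent.Lib.Th67.Side
import Cfsg.Agent.Lib.Th67.SideCheck0
import Cfsg.Agent.Lib.Th67.SideCheck1
import Cfsg.Agent.Lib.Th67.SideCheck2
import Cfsg.Agent.Lib.Th67.SideCheck3
import Cfsg.Agent.Lib.Th67.SideCheck4
import Cfsg.Agent.Lib.Th67.SideCheck5

/-!
The centraliser of `a` in the presented Thompson group, counted over the eleven double cosets of
`⟨a, ..., t⟩`.
-/

set_option autoImplicit false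

namespace Cfsg.Agent.Lib.Th67

open Cfsg Cfsg.Spor
open Cfsg.Agent.Lib.ThK83 (Kbar rep tabs nth nth_eq rangeB_spec band_eq bltN_iff forallB_iff eqLN_iff
  decode)
open Cfsg.Agent.Lib.Th23 (ThCover kM thStab fstL)
open Cfsg.Agent.Lib.Th55 (gg thPhi thMaps thCtx)

/-- the elements of the letters `0 .. 10` -/
noncomputable def letG (l : ℕ) : Th :=
  if l < 9 then thPhi (rep.f l) else if l = 9 then gg .u else (gg .u)⁻¹

theorem letG_low {l : ℕ} (hl : l < 9) : letG l = thPhi (rep.f l) := if_pos hl

theorem letG_inv : ∀ l < 11, letG (invE l) = (letG l)⁻¹ := by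
  intro l hl
  have e : ∀ l < 11, invE l = if l < 9 then ThK83.invL l else 19 - l := by decide +kernel
  rw [e l hl]
  rcases Nat.lt_or_ge l 9 with h | h
  · have h' : ∀ l < 9, ThK83.invL l < 9 := by decide +kernel
    rw [if_pos h, letG_low (h' l h), letG_low h, ThK83.rep_inv h, map_inv]
  · rw [if_neg (by omega)]
    interval_cases l <;> simp [letG]

theorem letOK_rho : LetOK Th22.rho letG := by
  intro l hl
  have m := thMaps
  have hv : ∀ x : Th.Gen, ((Th22.rho (gg x) : GL (Fin 248) (ZMod 3)) :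
      Matrix (Fin 248) (Fin 248) (ZMod 3)) = Th22.toMatG (Th22.letterCT (x, true)) := fun x => by
    rw [gg, Th22.rho_of]; exact Th22.val_letter (x, true)
  have hi : ∀ x : Th.Gen, ((Th22.rho (gg x)⁻¹ : GL (Fin 248) (ZMod 3)) :
      Matrix (Fin 248) (Fin 248) (ZMod 3)) = Th22.toMatG (Th22.letterCT (x, false)) := fun x => by
    rw [map_inv, gg, Th22.rho_of]; exact Th22.val_letter (x, false)
  have e6 : rep.f 6 = (rep.f 5)⁻¹ := ThK83.rep_inv (l := 5) (by decide)
  have e8 : rep.f 8 = (rep.f 7)⁻¹ := ThK83.rep_inv (l := 7) (by decide)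
  interval_cases l
  · rw [letG_low (by decide), m.ha, hv]; rfl
  · rw [letG_low (by decide), m.hb, hv]; rfl
  · rw [letG_low (by decide), m.hc, hv]; rfl
  · rw [letG_low (by decide), m.hd, hv]; rfl
  · rw [letG_low (by decide), m.he, hv]; rfl
  · rw [letG_low (by decide), m.hs, hv]; rfl
  · rw [letG_low (by decide), e6, map_inv thPhi, m.hs, hi]; rfl
  · rw [letG_low (by decide), m.ht, hv]; rfl
  · rw [letG_low (by decide), e8, map_inv thPhi, m.ht, hi]; rfl
  · rw [show letG 9 = gg .u from rfl, hv]; rfl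
  · rw [show letG 10 = (gg .u)⁻¹ from rfl, hi]; rfl

theorem wlTh_lt : ∀ j < 11, ∀ l ∈ nth [] wlTh j, l < 11 := by decide +kernel

theorem W_eq (Z : ThCover) (hpar : Z.R.D.par = parTh) :
    ∀ j < 11, (thCtx Z).W j = ((nth [] wlTh j).map letG).prod := by
  intro j
  induction j using Nat.strong_induction_on with
  | _ j ih =>
    intro hj
    cases j with
    | zero => rw [Th23.Ctx.W_zero, show nth [] wlTh 0 = ([] : List ℕ) from rfl]; rfl
    | succ k =>
      have h := rangeB_spec sideRep k (Nat.zero_le _) (by omega)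
      simp only [repOK, band_eq, Bool.and_eq_true, bltN_iff, eqLN_iff] at h
      have hp : LyDC.nth (0, []) Z.R.D.par k = nth (0, []) parTh k := by rw [hpar]; rfl
      rw [Th23.Ctx.W, dif_pos (by rw [hp]; exact h.1)]
      rw [hp, ih _ h.1 (by omega), h.2, List.map_append, List.map_append, List.prod_append,
        List.prod_append, prod_decode thPhi fun l hl => letG_low hl]
      simp only [List.map_cons, List.map_nil, List.prod_cons, List.prod_nil, mul_one]
      rfl

theorem card_comap_of_le {G H : Type*} [Group G] [Group H] {f : G →* H} (hf : Function.Injective f)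
    {K : Subgroup H} (hK : K ≤ f.range) : Nat.card (K.comap f) = Nat.card K := by
  refine Nat.card_congr (Equiv.ofBijective
    (fun x : K.comap f => (⟨f x, x.2⟩ : K)) ⟨fun a b h => ?_, fun y => ?_⟩)
  · exact Subtype.ext (hf (congrArg Subtype.val h :))
  · obtain ⟨x, hx⟩ := hK y.2
    exact ⟨⟨x, show f x ∈ K by rw [hx]; exact y.2⟩, Subtype.ext hx⟩

variable (Z : ThCover) (hdvd : 90745943887872000 ∣ Nat.card Th)
include hdvd

theorem mem_closure_gl {j : ℕ} (h1 : 1 ≤ j) (hj : j < 11) {gl : List (List ℕ)}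
    (hgl : fstL (Z.gl j) = gl) (x : Kbar)
    (hx : ((thCtx Z).W j) * thPhi x * ((thCtx Z).W j)⁻¹ ∈ thPhi.range) :
    x ∈ Subgroup.closure {g : Kbar | ∃ w ∈ gl, g = rep.ev w} := by
  have hle : kM.wordGroup gl ≤ (thCtx Z).S j := by
    refine kM.wordGroup_le fun w hw => ?_
    exact (thCtx Z).gens_mem (Z.gens j h1 hj) w (hgl ▸ hw)
  have hd : thStab.getD j 0 ∣ Nat.card (kM.wordGroup gl) := by
    refine (Z.lev_len j h1 hj).trans ?_
    have := Th23.chain_dvd kM (Z.lev_ok j h1 hj)
    rwa [Z.lev_gens j h1 hj, hgl] at this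
  have e := Subgroup.eq_of_le_of_card_ge hle (by
    rw [Th55.card_stab Z hdvd j hj]
    exact Nat.le_of_dvd Nat.card_pos hd)
  have hx' : x ∈ (thCtx Z).S j := hx
  rw [← e] at hx'
  exact hx'

theorem card_inf_ge (j : ℕ) (hj : j < 11) :
    Nat.card ↥(thPhi.range ⊓ thPhi.range.map (MulAut.conj ((thCtx Z).W j)⁻¹).toMonoidHom) =
      thStab.getD j 0 := by
  rw [← Th55.card_stab Z hdvd j hj,
    ← card_comap_of_le (Th55.thPhi_injective Z hdvd) inf_le_left]
  congr 2
  ext s
  show thPhi s ∈ thPhi.range ⊓ thPhi.range.map (MulAut.conj ((thCtx Z).W j)⁻¹).toMonoidHom ↔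
    (thCtx Z).W j * thPhi s * ((thCtx Z).W j)⁻¹ ∈ thPhi.range
  rw [Subgroup.mem_inf, LyCent69.mem_map_conj, inv_inv]
  exact ⟨fun h => h.2, fun h => ⟨⟨s, rfl⟩, h⟩⟩

/-- the good cosets in each double coset -/
def backN (j : ℕ) : ℕ := [1, 63, 0, 0, 56, 0, 0, 0, 0, 0, 0].getD j 0

theorem good_le (hpar : Z.R.D.par = parTh) {j : ℕ} (h1 : 1 ≤ j) (hj : j < 11)
    (hgl : fstL (Z.gl j) = nth [] glTh j)
    (hrun : ThK83.band (markRun tabs classBase classW (nth [] glTh j) (nth [] stepTh j)
      (maskL (nth [] repTh j ++ (nth [] inTh j).map Prod.fst)) (nth 0 markTh j))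
      (fullOK (nth [] goodTh j) (nth 0 markTh j) 819) = true)
    (hpb : ThK83.forallB (fun e => ThK83.band (Nat.blt e.1 819)
      (powBad rowMats (segW e.2 (nth [] wlTh j) (memW classW e.1)))) (nth [] inTh j) = true) :
    Nat.card ↥(classBack thPhi.range (thPhi (rep.f 0)) ((thCtx Z).W j)⁻¹) ≤
      (nth [] goodTh j).length := by
  have := Th55.th_finite Z
  rw [band_eq, Bool.and_eq_true] at hrun
  refine card_classBack_le thPhi classCert _ _
    (good_of_marks thPhi classCert ?_ ?_ hrun.1 hrun.2)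
  · intro w hw
    rw [inv_inv]
    exact (thCtx Z).gens_mem (Z.gens j h1 hj) w (hgl ▸ hw)
  · intro i hi
    rcases List.mem_append.1 hi with hi | hi
    · have h := rangeB_spec sideOut j (Nat.zero_le _) (by omega)
      have h' := forallB_iff.1 h i hi
      rw [band_eq, Bool.and_eq_true] at h'
      refine bad_of_out thPhi (fun x hx => ?_)
        (forallB_iff.1 (rangeB_spec sideOrb j (Nat.zero_le _) (by omega))) h'.2
      rw [inv_inv] at hx
      exact mem_closure_gl Z hdvd h1 hj hgl x hx
    · obtain ⟨e, he, rfl⟩ := List.mem_map.1 hi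
      have h' := forallB_iff.1 hpb e he
      rw [band_eq, Bool.and_eq_true] at h'
      rw [W_eq Z hpar j hj]
      exact bad_of_pow thPhi classCert (fun q hq => rangeB_spec sidePow q (Nat.zero_le _) (by omega))
        letOK_rho (fun l hl => letG_low hl) letG_inv (wlTh_lt j hj) h'.2

/-- the bound on the centraliser of `a` -/
theorem card_centralizer_a_le (hpar : Z.R.D.par = parTh)
    (hgl : ∀ j, 1 ≤ j → j < 11 → fstL (Z.gl j) = nth [] glTh j) :
    Nat.card ↥(Subgroup.centralizer ({thPhi (rep.f 0)} : Set Th)) ≤ 92897280 := by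
  have := Th55.th_finite Z
  have hinj := Th55.thPhi_injective Z hdvd
  refine (card_centralizer_le_sum thPhi.range (thPhi (rep.f 0))
    (fun j : Fin 11 => ((thCtx Z).W j)⁻¹) ⟨_, rfl⟩ (fun g => ?_)
    ((card_centIn_le thPhi hinj).trans card_cent_a) (fun j => backN j) (fun j => ?_)).trans
    (by decide +kernel)
  · obtain ⟨j, hj, h, k, e⟩ := (Th55.th_covered Z).cover_left g
    exact ⟨⟨j, hj⟩, _, ⟨h, rfl⟩, _, ⟨k, rfl⟩, e⟩
  · have hS := card_inf_ge Z hdvd j j.2
    rw [hS]
    have step : ∀ b, Nat.card ↥(classBack thPhi.range (thPhi (rep.f 0)) ((thCtx Z).W j)⁻¹) ≤ b →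
        b * 774144 ≤ backN j * thStab.getD j 0 →
        Nat.card ↥(classBack thPhi.range (thPhi (rep.f 0)) ((thCtx Z).W j)⁻¹) * 774144 ≤
          backN j * thStab.getD j 0 :=
      fun b hb h => (Nat.mul_le_mul_right _ hb).trans h
    obtain ⟨j, hj⟩ := j
    dsimp only at step ⊢
    interval_cases j
    · refine step 819 ((card_classBack_le thPhi classCert _ (List.range 819)
        fun i hi _ => List.mem_range.2 hi).trans (List.length_range (n := 819)).le) (by decide +kernel)
    · exact step _ (good_le Z hdvd hpar (by decide) (by decide) (hgl 1 (by decide) (by decide))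
        sideRun1 sidePowBad1) (by decide +kernel)
    · exact step _ (good_le Z hdvd hpar (by decide) (by decide) (hgl 2 (by decide) (by decide))
        sideRun2 rfl) (by decide +kernel)
    · exact step _ (good_le Z hdvd hpar (by decide) (by decide) (hgl 3 (by decide) (by decide))
        sideRun3 sidePowBad3) (by decide +kernel)
    · exact step _ (good_le Z hdvd hpar (by decide) (by decide) (hgl 4 (by decide) (by decide))
        sideRun4 sidePowBad4) (by decide +kernel)
    · exact step _ (good_le Z hdvd hpar (by decide) (by decide) (hgl 5 (by decide) (by decide))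
        sideRun5 rfl) (by decide +kernel)
    · exact step _ (good_le Z hdvd hpar (by decide) (by decide) (hgl 6 (by decide) (by decide))
        sideRun6 rfl) (by decide +kernel)
    · exact step _ (good_le Z hdvd hpar (by decide) (by decide) (hgl 7 (by decide) (by decide))
        sideRun7 rfl) (by decide +kernel)
    · exact step _ (good_le Z hdvd hpar (by decide) (by decide) (hgl 8 (by decide) (by decide))
        sideRun8 rfl) (by decide +kernel)
    · exact step _ (good_le Z hdvd hpar (by decide) (by decide) (hgl 9 (by decide) (by decide))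
        sideRun9 rfl) (by decide +kernel)
    · exact step _ (good_le Z hdvd hpar (by decide) (by decide) (hgl 10 (by decide) (by decide))
        sideRun10 rfl) (by decide +kernel)

omit hdvd in
theorem hRels_th : Th19.HRels (thPhi (rep.f 0)) (thPhi (rep.f 2)) (thPhi (rep.f 3)) (thPhi (rep.f 4))
    (thPhi (rep.f 5)) (thPhi (rep.f 7)) (gg .u) := by
  have m := thMaps
  rw [m.ha, m.hc, m.hd, m.he, m.hs, m.ht]
  have g : ∀ i < 39, ∀ r, Th.extra[i]? = some r →
      FreeGroup.lift (Th23.thVal (gg .a) (gg .b) (gg .c) (gg .d) (gg .e) (gg .s) (gg .t) (gg .u)) r = 1 :=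
    fun i hi => Th55.rels_gg i (List.mem_range.2 hi)
  have e27 := g 27 (by decide) _ rfl
  have e28 := g 28 (by decide) _ rfl
  have e29 := g 29 (by decide) _ rfl
  have e30 := g 30 (by decide) _ rfl
  have e31 := g 31 (by decide) _ rfl
  have e34 := g 34 (by decide) _ rfl
  have e35 := g 35 (by decide) _ rfl
  have e36 := g 36 (by decide) _ rfl
  have e37 := g 37 (by decide) _ rfl
  have e38 := g 38 (by decide) _ rfl
  simp only [map_mul, map_inv, map_pow, FreeGroup.lift_apply_of, Th23.thVal]
    at e27 e28 e29 e30 e31 e34 e35 e36 e37 e38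
  exact ⟨e27, e28, e29, e30, e31, e34, e35, e36, e37, e38⟩

include Z in
theorem u_not_mem_range : gg .u ∉ thPhi.range := by
  intro hu
  have hi := (Th55.card_range_index Z hdvd).1
  have htop : thPhi.range = ⊤ := by
    refine top_unique ((Th55.thCtx_gen Z).ge.trans ((Subgroup.closure_le _).2 ?_))
    rintro x (hx | rfl)
    · exact hx
    · exact hu
  rw [htop, Subgroup.index_top] at hi
  exact absurd hi (by decide)

/-- the centraliser of `a` in the presented Thompson group -/
theorem structure_a (hpar : Z.R.D.par = parTh)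
    (hgl : ∀ j, 1 ≤ j → j < 11 → fstL (Z.gl j) = nth [] glTh j) :
    Subgroup.centralizer ({gg .a} : Set Th) =
        Subgroup.closure {gg .a, gg .c, gg .d, gg .e, gg .s, gg .t, gg .u} ∧
      Nat.card (Subgroup.centralizer ({gg .a} : Set Th)) = 92897280 ∧
      orderOf (gg .a) = 2 ∧
      ∃ (Q : Subgroup (Subgroup.centralizer ({gg .a} : Set Th))) (_ : Q.Normal),
        Nat.card Q = 2 ^ 9 ∧ IsExtraspecial 2 Q ∧
          Nonempty ((Subgroup.centralizer ({gg .a} : Set Th)) ⧸ Q ≃* alternatingGroup (Fin 9)) := by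
  have := Th55.th_finite Z
  have h := Th19.structure_full thPhi (Th55.thPhi_injective Z hdvd) (gg .u)
    (u_not_mem_range Z hdvd) hRels_th (card_centralizer_a_le Z hdvd hpar hgl)
  have m := thMaps
  rw [m.ha, m.hc, m.hd, m.he, m.hs, m.ht] at h
  exact h

end Cfsg.Agent.Lib.Th67
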