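import Cfsg.Agent.Lib.Th23.Cert
import Cfsg.Agent.Lib.Th67.Cent

/-! The centraliser of `a` in the presented Thompson group, on the checked cover. -/

set_option autoImplicit false

namespace Cfsg.Agent.Lib.Th67

open Cfsg Cfsg.Spor
open Cfsg.Agent.Lib.Th55 (gg)
open Cfsg.Agent.Lib.Th23 (thCover)

theorem par_thCover : thCover.R.D.par = parTh := rfl

theorem gl_thCover : ∀ j, 1 ≤ j → j < 11 →
    Th23.fstL (thCover.gl j) = ThK83.nth [] glTh j := by
  intro j h1 h2
  interval_cases j <;> rfl

/-- the centraliser of `a`, given the divisor of the order -/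
theorem structure_cert (hdvd : 90745943887872000 ∣ Nat.card Th) :
    Subgroup.centralizer ({gg .a} : Set Th) =
        Subgroup.closure {gg .a, gg .c, gg .d, gg .e, gg .s, gg .t, gg .u} ∧
      Nat.card (Subgroup.centralizer ({gg .a} : Set Th)) = 92897280 ∧
      orderOf (gg .a) = 2 ∧
      ∃ (Q : Subgroup (Subgroup.centralizer ({gg .a} : Set Th))) (_ : Q.Normal),
        Nat.card Q = 2 ^ 9 ∧ IsExtraspecial 2 Q ∧
          Nonempty ((Subgroup.centralizer ({gg .a} : Set Th)) ⧸ Q ≃* alternatingGroup (Fin 9)) :=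
  structure_a thCover hdvd par_thCover gl_thCover

end Cfsg.Agent.Lib.Th67
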